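import Cfsg.Agent.SporJ2.FusionData
import Cfsg.Agent.SporJ2.Hundred
import Cfsg.Agent.Fus.CentralInvolution

/-!
The `2`-fusion system of `J2` on 100 points is simple: a Sylow 2-subgroup of order 128 with centre of
order 2, the centralizer of order 1920 of its central involution, and a fusion closure.
-/

set_option autoImplicit false
set_option maxRecDepth 100000

namespace CfsgLib.SporJ2.Fusion

open CfsgLib.CosetEnum Hundred

/-- the packed element at a position -/
def el (j : ℕ) : ℕ := elems.getD j 0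

/-- the first packed permutation is the composite of the other two -/
def compOK (R P Q : ℕ) : Bool := allBelow (fun i => img R i == img P (img Q i)) 100

/-- two packed permutations commute -/
def commOK (P Q : ℕ) : Bool := allBelow (fun i => img P (img Q i) == img Q (img P i)) 100

theorem compOK_iff {R P Q : ℕ} : compOK R P Q = true ↔ ∀ i < 100, img R i = img P (img Q i) := by
  simp only [compOK, Model.allBelow_iff, beq_iff_eq]

theorem commOK_iff {P Q : ℕ} :
    commOK P Q = true ↔ ∀ i < 100, img P (img Q i) = img Q (img P i) := by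
  simp only [commOK, Model.allBelow_iff, beq_iff_eq]

variable {a b c : Equiv.Perm (Fin D.n)} {P Q R : ℕ}

theorem eq_mul (hc : Rep R c) (ha : Rep P a) (hb : Rep Q b) (h : compOK R P Q = true) : c = a * b :=
  hc.ext (ha.mul hb (compOK_iff.1 h))

theorem commute_iff (ha : Rep P a) (hb : Rep Q b) : commOK P Q = true ↔ a * b = b * a := by
  rw [commOK_iff]
  constructor
  · intro h
    refine Equiv.ext fun i => Fin.ext ?_
    rw [Equiv.Perm.mul_apply, Equiv.Perm.mul_apply, ha, hb, hb, ha]
    exact h i i.2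
  · intro h i hi
    have := congrArg (fun s : Equiv.Perm (Fin D.n) => ((s ⟨i, hi⟩ : Fin D.n) : ℕ)) h
    simp only [Equiv.Perm.mul_apply] at this
    rwa [ha, hb, hb, ha] at this

/-! ### The Sylow subgroup -/

/-- the generators read from their words -/
noncomputable def sgOK : Bool :=
  allBelow (fun k => packOK D (sgWords.getD k []) (sgPacks.getD k 0)) 3

theorem sg_ok : sgOK = true := by decide +kernel

/-- a generator -/
noncomputable def gen' (k : ℕ) : Equiv.Perm (Fin D.n) := act ok (sgWords.getD k [])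

theorem gen'_spec {k : ℕ} (hk : k < 3) : gen' k ∈ grp ∧ Rep (sgPacks.getD k 0) (gen' k) := by
  obtain ⟨hw, hr⟩ := packOK_sound ok ((Model.allBelow_iff _ _).1 sg_ok k hk)
  exact ⟨act_mem ok sigma_mem hw, hr⟩

/-- the Sylow subgroup -/
noncomputable def syl : Subgroup (Equiv.Perm (Fin D.n)) :=
  Subgroup.closure {a | ∃ k < 3, gen' k = a}

theorem syl_le : syl ≤ grp := by
  rw [syl, Subgroup.closure_le]
  rintro _ ⟨k, hk, rfl⟩
  exact (gen'_spec hk).1

/-- the positions are linked by the generators -/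
def elemsOK : Bool :=
  (allBelow (fun i => img (el 0) i == i) 100) &&
    allBelow (fun j => j == 0 || (let p := parents.getD j (0, 0)
      p.1.blt j && p.2.blt 3 && compOK (el j) (el p.1) (sgPacks.getD p.2 0))) 128

theorem elems_ok : elemsOK = true := by decide +kernel

theorem exists_elem : ∀ j, j < 128 → ∃ a ∈ syl, Rep (el j) a := by
  have h := elems_ok
  simp only [elemsOK, Bool.and_eq_true, Model.allBelow_iff, Bool.or_eq_true, beq_iff_eq, Nat.blt,
    Nat.ble_eq] at h
  intro j
  induction j using Nat.strong_induction_on with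
  | _ j ih =>
    intro hj
    rcases h.2 j hj with rfl | ⟨⟨hlt, hk⟩, hc⟩
    · exact ⟨1, one_mem _, fun i => (h.1 i i.2).symm⟩
    · obtain ⟨a, ha, har⟩ := ih _ hlt (by omega)
      exact ⟨a * gen' (parents.getD j (0, 0)).2,
        mul_mem ha (Subgroup.subset_closure ⟨_, hk, rfl⟩),
        har.mul (gen'_spec hk).2 (compOK_iff.1 hc)⟩

/-- the multiplication table -/
def tableOK : Bool :=
  allBelow (fun j => allBelow (fun k => (let t := (mulTable.getD j []).getD k 0
    t.blt 128 && compOK (el t) (el j) (sgPacks.getD k 0))) 3) 128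

theorem table_ok : tableOK = true := by decide +kernel

theorem mem_syl_iff : a ∈ syl ↔ ∃ j < 128, Rep (el j) a := by
  constructor
  · intro ha
    rw [← Subgroup.mem_toSubmonoid, syl, Subgroup.closure_toSubmonoid_of_finite] at ha
    induction ha using Submonoid.closure_induction_right with
    | one =>
      have h := elems_ok
      simp only [elemsOK, Bool.and_eq_true, Model.allBelow_iff, beq_iff_eq] at h
      exact ⟨0, by norm_num, fun i => (h.1 i i.2).symm⟩
    | mul_right x _ y hy ih =>
      obtain ⟨j, hj, hjx⟩ := ih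
      obtain ⟨k, hk, rfl⟩ := hy
      have h := (Model.allBelow_iff _ _).1 ((Model.allBelow_iff _ _).1 table_ok j hj) k hk
      simp only [Bool.and_eq_true, Nat.blt, Nat.ble_eq] at h
      exact ⟨_, h.1, hjx.mul (gen'_spec hk).2 (compOK_iff.1 h.2)⟩
  · rintro ⟨j, hj, hja⟩
    obtain ⟨b, hb, hbr⟩ := exists_elem j hj
    rwa [hja.ext hbr]

/-- the positions are distinct -/
def distinctOK : Bool :=
  allBelow (fun j => allBelow (fun k => !allBelow (fun i => img (el j) i == img (el k) i) 100) j) 128

theorem distinct_ok : distinctOK = true := by decide +kernel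

theorem el_inj {j k : ℕ} (hj : j < 128) (hk : k < 128) (ha : Rep (el j) a) (hb : Rep (el k) a) :
    j = k := by
  have h := distinct_ok
  simp only [distinctOK, Model.allBelow_iff, Bool.not_eq_true', Bool.eq_false_iff, ne_eq,
    beq_iff_eq] at h
  rcases Nat.lt_trichotomy j k with hlt | heq | hgt
  · exact absurd (fun i hi => (hb ⟨i, hi⟩).symm.trans (ha ⟨i, hi⟩)) (h k hk j hlt)
  · exact heq
  · exact absurd (fun i hi => (ha ⟨i, hi⟩).symm.trans (hb ⟨i, hi⟩)) (h j hj k hgt)

theorem card_syl : Nat.card syl = 128 := by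
  choose f hf hr using fun j : Fin 128 => exists_elem j j.2
  rw [← Nat.card_fin 128]
  refine (Nat.card_congr (Equiv.ofBijective (fun j => (⟨f j, hf j⟩ : syl)) ⟨?_, ?_⟩)).symm
  · intro j k hjk
    have hjk' : f j = f k := congrArg Subtype.val hjk
    exact Fin.ext (el_inj j.2 k.2 (hr j) (hjk' ▸ hr k))
  · rintro ⟨a, ha⟩
    obtain ⟨j, hj, hja⟩ := mem_syl_iff.1 ha
    exact ⟨⟨j, hj⟩, Subtype.ext ((hr ⟨j, hj⟩).ext hja)⟩

/-! ### The central involution -/

/-- the central involution -/
noncomputable def z : Equiv.Perm (Fin D.n) := act ok [0]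

/-- the centre has two elements -/
noncomputable def centreOK : Bool :=
  packOK D [0] (el zIdx) && zIdx.blt 128 && !(zIdx == 0) &&
    allBelow (fun k => commOK (el zIdx) (sgPacks.getD k 0)) 3 &&
    allBelow (fun j => j == 0 || j == zIdx ||
      !allBelow (fun k => commOK (el j) (sgPacks.getD k 0)) 3) 128

theorem centre_ok : centreOK = true := by decide +kernel

theorem z_spec : z ∈ syl ∧ Rep (el zIdx) z ∧ z ≠ 1 ∧ z ∈ grp := by
  have h := centre_ok
  simp only [centreOK, Bool.and_eq_true, Nat.blt, Nat.ble_eq, Bool.not_eq_true',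
    beq_eq_false_iff_ne, ne_eq] at h
  obtain ⟨hw, hr⟩ := packOK_sound ok h.1.1.1.1
  refine ⟨mem_syl_iff.2 ⟨_, h.1.1.1.2, hr⟩, hr, fun h1 => h.1.1.2 ?_, act_mem ok sigma_mem hw⟩
  obtain ⟨b, hb, hbr⟩ := exists_elem 0 (by norm_num)
  have h0 := elems_ok
  simp only [elemsOK, Bool.and_eq_true, Model.allBelow_iff, beq_iff_eq] at h0
  have hone : Rep (el 0) (1 : Equiv.Perm (Fin D.n)) := fun i => (h0.1 i i.2).symm
  exact el_inj h.1.1.1.2 (by norm_num) hr (show Rep (el 0) z from h1.symm ▸ hone)

theorem z_comm : ∀ s ∈ syl, s * z = z * s := by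
  intro s hs
  rw [syl] at hs
  induction hs using Subgroup.closure_induction with
  | mem x hx =>
    obtain ⟨k, hk, rfl⟩ := hx
    have h := centre_ok
    simp only [centreOK, Bool.and_eq_true, Model.allBelow_iff] at h
    exact ((commute_iff z_spec.2.1 (gen'_spec hk).2).1 (h.1.2 k hk)).symm
  | one => rw [one_mul, mul_one]
  | mul x y _ _ hx hy => rw [mul_assoc, hy, ← mul_assoc, hx, mul_assoc]
  | inv x _ hx => exact (Commute.inv_left hx).eq

theorem z_unique {x : Equiv.Perm (Fin D.n)} (hx : x ∈ syl) (hc : ∀ s ∈ syl, s * x = x * s) :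
    x = 1 ∨ x = z := by
  obtain ⟨j, hj, hjx⟩ := mem_syl_iff.1 hx
  have h := centre_ok
  simp only [centreOK, Bool.and_eq_true, Model.allBelow_iff, Bool.or_eq_true, beq_iff_eq,
    Bool.not_eq_true', Bool.eq_false_iff, ne_eq] at h
  rcases h.2 j hj with (rfl | rfl) | hne
  · left
    have h0 := elems_ok
    simp only [elemsOK, Bool.and_eq_true, Model.allBelow_iff, beq_iff_eq] at h0
    exact hjx.ext fun i => (h0.1 i i.2).symm
  · exact Or.inr (hjx.ext z_spec.2.1)
  · exact absurd (fun k hk => (commute_iff hjx (gen'_spec hk).2).2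
      (hc _ (Subgroup.subset_closure ⟨k, hk, rfl⟩)).symm) hne

/-! ### The extraspecial subgroup -/

/-- the subgroup of order 32 -/
noncomputable def core : Subgroup (Equiv.Perm (Fin D.n)) :=
  Subgroup.closure {a | ∃ r ∈ rList, Rep (el r) a}

/-- the list is closed under products and inside the Sylow subgroup -/
def coreOK : Bool :=
  rList.all (fun r => r.blt 128) && rList.contains 0 && rList.contains zIdx &&
    allBelow (fun x => allBelow (fun y => (let t := (rTable.getD x []).getD y 0
      rList.contains t && compOK (el t) (el (rList.getD x 0)) (el (rList.getD y 0)))) 32) 32 &&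
    (rList.length == 32)

theorem core_ok : coreOK = true := by decide +kernel

theorem rList_lt {r : ℕ} (hr : r ∈ rList) : r < 128 := by
  have h := core_ok
  simp only [coreOK, Bool.and_eq_true, List.all_eq_true, Nat.blt, Nat.ble_eq] at h
  exact h.1.1.1.1 r hr

theorem mem_core_iff : a ∈ core ↔ ∃ r ∈ rList, Rep (el r) a := by
  refine ⟨fun ha => ?_, fun ha => Subgroup.subset_closure ha⟩
  have h := core_ok
  simp only [coreOK, Bool.and_eq_true, Model.allBelow_iff, List.contains_eq_mem, decide_eq_true_eq,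
    beq_iff_eq] at h
  rw [← Subgroup.mem_toSubmonoid, core, Subgroup.closure_toSubmonoid_of_finite] at ha
  induction ha using Submonoid.closure_induction_right with
  | one =>
    have h0 := elems_ok
    simp only [elemsOK, Bool.and_eq_true, Model.allBelow_iff, beq_iff_eq] at h0
    exact ⟨0, h.1.1.1.2, fun i => (h0.1 i i.2).symm⟩
  | mul_right x _ y hy ih =>
    obtain ⟨r, hr, hrx⟩ := ih
    obtain ⟨s, hs, hsy⟩ := hy
    obtain ⟨u, hu, rfl⟩ := List.getElem_of_mem hr
    obtain ⟨v, hv, rfl⟩ := List.getElem_of_mem hs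
    have h2 := h.1.2 u (h.2 ▸ hu) v (h.2 ▸ hv)
    rw [List.getD_eq_getElem _ _ hu, List.getD_eq_getElem _ _ hv] at h2
    exact ⟨_, h2.1, hrx.mul hsy (compOK_iff.1 h2.2)⟩

theorem core_le : core ≤ syl := fun _ ha => by
  obtain ⟨r, hr, hra⟩ := mem_core_iff.1 ha
  exact mem_syl_iff.2 ⟨r, rList_lt hr, hra⟩

theorem z_mem_core : z ∈ core := by
  have h := core_ok
  simp only [coreOK, Bool.and_eq_true, List.contains_eq_mem, decide_eq_true_eq] at h
  exact mem_core_iff.2 ⟨_, h.1.1.2, z_spec.2.1⟩

/-! ### The centralizer of the involution -/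

/-- the packed permutations normalizing the core -/
def normPack (u : ℕ) : ℕ := if u < 3 then sgPacks.getD u 0 else jPacks.getD (u - 3) 0

/-- the permutations normalizing the core -/
noncomputable def normGen (u : ℕ) : Equiv.Perm (Fin D.n) :=
  if u < 3 then gen' u else act ok (jWords.getD (u - 3) [])

/-- the four involutions of the centralizer, and the conjugation table -/
noncomputable def localOK : Bool :=
  allBelow (fun k => packOK D (jWords.getD k []) (jPacks.getD k 0) &&
    commOK (el zIdx) (jPacks.getD k 0) &&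
    allBelow (fun i => img (jPacks.getD k 0) (img (jPacks.getD k 0) i) == i) 100) 4 &&
  allBelow (fun u => allBelow (fun x => (let t := (nTable.getD u []).getD x 0
    rList.contains t && allBelow (fun i =>
      img (el t) (img (normPack u) i) == img (normPack u) (img (el (rList.getD x 0)) i)) 100)) 32) 7

theorem local_ok : localOK = true := by decide +kernel

theorem jgen_spec {k : ℕ} (hk : k < 4) :
    normGen (k + 3) ∈ grp ∧ Rep (jPacks.getD k 0) (normGen (k + 3)) ∧
      normGen (k + 3) * z = z * normGen (k + 3) ∧ normGen (k + 3) * normGen (k + 3) = 1 := by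
  have h := local_ok
  simp only [localOK, Bool.and_eq_true, Model.allBelow_iff, beq_iff_eq] at h
  obtain ⟨⟨hp, hc⟩, hs⟩ := h.1 k hk
  obtain ⟨hw, hr⟩ := packOK_sound ok hp
  have e : normGen (k + 3) = act ok (jWords.getD k []) := by
    simp only [normGen, show ¬ k + 3 < 3 by omega, if_false, Nat.add_sub_cancel]
  rw [e]
  refine ⟨act_mem ok sigma_mem hw, hr, ((commute_iff z_spec.2.1 hr).1 hc).symm, ?_⟩
  refine Equiv.ext fun i => Fin.ext ?_
  rw [Equiv.Perm.mul_apply, hr, hr]
  exact hs i i.2

theorem normGen_rep {u : ℕ} (hu : u < 7) : Rep (normPack u) (normGen u) := by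
  by_cases h : u < 3
  · simp only [normPack, normGen, h, if_true]
    exact (gen'_spec h).2
  · obtain ⟨k, rfl⟩ : ∃ k, u = k + 3 := ⟨u - 3, by omega⟩
    simp only [normPack, h, if_false, Nat.add_sub_cancel]
    exact (jgen_spec (by omega)).2.1

theorem normGen_normalizes {u : ℕ} (hu : u < 7) :
    normGen u ∈ Subgroup.normalizer (core : Set (Equiv.Perm (Fin D.n))) := by
  refine Subgroup.mem_normalizer_fintype fun x hx => ?_
  obtain ⟨r, hr, hrx⟩ := mem_core_iff.1 hx
  obtain ⟨v, hv, rfl⟩ := List.getElem_of_mem hr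
  have hlen := core_ok
  simp only [coreOK, Bool.and_eq_true, beq_iff_eq] at hlen
  have h := local_ok
  simp only [localOK, Bool.and_eq_true, Model.allBelow_iff, beq_iff_eq, List.contains_eq_mem,
    decide_eq_true_eq] at h
  obtain ⟨ht, himg⟩ := h.2 u hu v (hlen.2 ▸ hv)
  rw [List.getD_eq_getElem _ _ hv] at himg
  obtain ⟨y, hy, hyr⟩ := exists_elem _ (rList_lt ht)
  refine mem_core_iff.2 ⟨_, ht, ?_⟩
  have e : y * normGen u = normGen u * x := by
    refine Equiv.ext fun i => Fin.ext ?_
    rw [Equiv.Perm.mul_apply, Equiv.Perm.mul_apply, hyr, normGen_rep hu, normGen_rep hu, hrx]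
    exact himg i i.2
  show Rep _ (normGen u * x * (normGen u)⁻¹)
  rwa [← e, mul_inv_cancel_right]

/-- products of two of the involutions have orders 3 and 5 and move the core -/
def orderOK : Bool :=
  [(0, 3), (2, 5)].all fun p => allBelow (fun i =>
      iter (fun t => img (jPacks.getD p.1 0) (img (jPacks.getD (p.1 + 1) 0) t)) p.2 i == i) 100 &&
    rList.any (fun r => !allBelow (fun i =>
      img (jPacks.getD p.1 0) (img (jPacks.getD (p.1 + 1) 0) (img (el r) i)) ==
        img (el r) (img (jPacks.getD p.1 0) (img (jPacks.getD (p.1 + 1) 0) i))) 100)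

theorem order_ok : orderOK = true := by decide +kernel

/-- the generated centralizer -/
noncomputable def cen : Subgroup (Equiv.Perm (Fin D.n)) :=
  Subgroup.closure {a | ∃ u < 7, normGen u = a}

theorem syl_le_cen : syl ≤ cen := by
  rw [syl, Subgroup.closure_le]
  rintro _ ⟨k, hk, rfl⟩
  exact Subgroup.subset_closure ⟨k, by omega, by simp only [normGen, hk, if_true]⟩

theorem cen_le : cen ≤ grp ∧ cen ≤ Subgroup.centralizer {z} ∧
    cen ≤ Subgroup.normalizer (core : Set (Equiv.Perm (Fin D.n))) := by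
  refine ⟨?_, ?_, ?_⟩ <;>
    (rw [cen, Subgroup.closure_le]; rintro _ ⟨u, hu, rfl⟩)
  · by_cases h : u < 3
    · simp only [normGen, h, if_true]; exact (gen'_spec h).1
    · obtain ⟨k, rfl⟩ : ∃ k, u = k + 3 := ⟨u - 3, by omega⟩
      exact (jgen_spec (by omega)).1
  · refine Subgroup.mem_centralizer_singleton_iff.2 ?_
    by_cases h : u < 3
    · simp only [normGen, h, if_true]
      exact z_comm _ (Subgroup.subset_closure ⟨u, h, rfl⟩)
    · obtain ⟨k, rfl⟩ : ∃ k, u = k + 3 := ⟨u - 3, by omega⟩
      exact (jgen_spec (by omega)).2.2.1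
  · exact normGen_normalizes hu

theorem exists_order : ∀ q ∈ [3, 5], ∃ x ∈ cen, orderOf x = q ∧ ∃ r ∈ core, x * r ≠ r * x := by
  intro q hq
  obtain ⟨k, hk, hk4, hqp⟩ : ∃ k, (k, q) ∈ [((0 : ℕ), 3), (2, 5)] ∧ k + 1 < 4 ∧ q.Prime := by
    rcases List.mem_cons.1 hq with rfl | hq'
    · exact ⟨0, by simp, by omega, by norm_num⟩
    · obtain rfl := List.mem_singleton.1 hq'
      exact ⟨2, by simp, by omega, by norm_num⟩
  have h := order_ok
  simp only [orderOK, List.all_eq_true, Bool.and_eq_true, Model.allBelow_iff, beq_iff_eq,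
    List.any_eq_true, Bool.not_eq_true', Bool.eq_false_iff, ne_eq] at h
  obtain ⟨hpow, r, hr, hmove⟩ := h _ hk
  have h1 := (jgen_spec (show k < 4 by omega)).2.1
  have h2 := (jgen_spec hk4).2.1
  obtain ⟨y, -, hy⟩ := exists_elem r (rList_lt hr)
  set x := normGen (k + 3) * normGen (k + 1 + 3)
  have hx : ∀ i : Fin D.n, ((x i : Fin D.n) : ℕ) =
      img (jPacks.getD k 0) (img (jPacks.getD (k + 1) 0) i) := fun i => by
    rw [Equiv.Perm.mul_apply, h1, h2]
  have hne : x * y ≠ y * x := fun e => hmove fun i hi => by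
    have h3 := congrArg (fun s : Equiv.Perm (Fin D.n) => ((s ⟨i, hi⟩ : Fin D.n) : ℕ)) e
    simp only [Equiv.Perm.mul_apply] at h3
    rwa [hx, hy, hy, hx] at h3
  refine ⟨x, mul_mem (Subgroup.subset_closure ⟨k + 3, by omega, rfl⟩)
    (Subgroup.subset_closure ⟨k + 1 + 3, by omega, rfl⟩), ?_, y, mem_core_iff.2 ⟨r, hr, hy⟩, hne⟩
  have : Fact q.Prime := ⟨hqp⟩
  refine orderOf_eq_prime (Equiv.ext fun i => Fin.ext ((iter_rep _ hx q i).trans (hpow i i.2))) ?_
  rintro h1x
  rw [h1x, one_mul, mul_one] at hne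
  exact hne rfl

theorem dvd_card_cen : 1920 ∣ Nat.card cen := by
  have h128 : 128 ∣ Nat.card cen := card_syl ▸ Subgroup.card_dvd_of_le syl_le_cen
  obtain ⟨x, hx, hox, -⟩ := exists_order 3 (by simp)
  obtain ⟨y, hy, hoy, -⟩ := exists_order 5 (by simp)
  have h3 : 3 ∣ Nat.card cen := hox ▸ Subgroup.orderOf_dvd_natCard _ hx
  have h5 : 5 ∣ Nat.card cen := hoy ▸ Subgroup.orderOf_dvd_natCard _ hy
  exact Nat.Coprime.mul_dvd_of_dvd_of_dvd (m := 128) (n := 15) (by norm_num) h128
    (Nat.Coprime.mul_dvd_of_dvd_of_dvd (m := 3) (n := 5) (by norm_num) h3 h5)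

/-- the key of a conjugate -/
def keyOf (c : List ℕ × ℕ × ℕ) : ℕ := key keyPts c.2.2

/-- an increasing list -/
def incr : List ℕ → Bool
  | x :: y :: l => x.blt y && incr (y :: l)
  | _ => true

theorem pairwise_of_incr : ∀ {l : List ℕ}, incr l = true → l.Pairwise (· < ·)
  | [], _ => List.Pairwise.nil
  | [x], _ => List.pairwise_singleton _ x
  | x :: y :: l, h => by
    simp only [incr, Bool.and_eq_true, Nat.blt, Nat.ble_eq] at h
    have ih := pairwise_of_incr h.2
    refine List.pairwise_cons.2 ⟨fun w hw => ?_, ih⟩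
    rcases List.mem_cons.1 hw with rfl | hw'
    · exact h.1
    · exact lt_trans h.1 ((List.pairwise_cons.1 ih).1 w hw')

/-- the conjugates are distinct -/
noncomputable def classOK : Bool :=
  (classList.length == 315) && incr (classList.map keyOf) && keyPts.all (fun p => p.blt 100) &&
    classList.all fun c => packOK D c.1 c.2.1 && allBelow (fun i =>
      img c.2.2 (img c.2.1 i) == img c.2.1 (img (el zIdx) i)) 100

theorem class_ok : classOK = true := by decide +kernel

theorem card_centralizer_le :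
    Nat.card ↥(Subgroup.centralizer ({(⟨z, z_spec.2.2.2⟩ : grp)} : Set grp)) ≤ 1920 := by
  set zz : grp := ⟨z, z_spec.2.2.2⟩
  have h := class_ok
  simp only [classOK, Bool.and_eq_true, beq_iff_eq, List.all_eq_true, Nat.blt, Nat.ble_eq,
    Model.allBelow_iff] at h
  obtain ⟨⟨⟨hlen, hincr⟩, hpts⟩, hall⟩ := h
  have hex : ∀ j : Fin classList.length, ∃ g : grp, Rep classList[(j : ℕ)].2.2
      ((g * zz * g⁻¹ : grp) : Equiv.Perm (Fin D.n)) := by
    intro j
    obtain ⟨hp, himg⟩ := hall _ (List.getElem_mem j.2)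
    obtain ⟨hw, hr⟩ := packOK_sound ok hp
    refine ⟨⟨_, act_mem ok sigma_mem hw⟩, fun i => ?_⟩
    obtain ⟨i', rfl⟩ := (act ok classList[(j : ℕ)].1).surjective i
    simp only [Subgroup.coe_mul, InvMemClass.coe_inv, Equiv.Perm.mul_apply, Equiv.Perm.inv_def,
      Equiv.symm_apply_apply]
    rw [hr, hr, z_spec.2.1]
    exact (himg i' i'.2).symm
  choose g hg using hex
  have hinj : Function.Injective fun j => (⟨g j * zz * (g j)⁻¹, g j, rfl⟩ :
      Set.range fun a : grp => a * zz * a⁻¹) := by
    intro j k hjk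
    have e : ((g j * zz * (g j)⁻¹ : grp) : Equiv.Perm (Fin D.n)) = (g k * zz * (g k)⁻¹ : grp) :=
      congrArg (fun w => ((w.1 : grp) : Equiv.Perm (Fin D.n))) hjk
    have hkey : keyOf classList[(j : ℕ)] = keyOf classList[(k : ℕ)] :=
      key_congr fun b hb => by
        rw [← hg j ⟨b, hpts b hb⟩, ← hg k ⟨b, hpts b hb⟩, e]
    have hnd : (classList.map keyOf).Nodup :=
      (pairwise_of_incr hincr).imp fun hlt => hlt.ne
    refine Fin.ext ((hnd.getElem_inj_iff (hi := by simp) (hj := by simp)).1 ?_)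
    simpa using hkey
  have h315 := Nat.card_le_card_of_injective _ hinj
  rw [Nat.card_fin, hlen] at h315
  have horb : Nat.card (Set.range fun a : grp => a * zz * a⁻¹) =
      (Subgroup.centralizer ({zz} : Set grp)).index := by
    rw [Subgroup.centralizer_eq_comap_stabilizer]
    refine Eq.trans ?_ (Subgroup.index_comap_of_surjective
      (f := (ConjAct.toConjAct (G := grp)).toMonoidHom) _ (MulEquiv.surjective _)).symm
    rw [MulAction.index_stabilizer, ← Nat.card_coe_set_eq]
    exact Nat.card_congr (Equiv.setCongr (Set.ext fun x =>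
      ⟨fun ⟨a, ha⟩ => ⟨ConjAct.toConjAct a, ha⟩, fun ⟨a, ha⟩ => ⟨ConjAct.ofConjAct a, ha⟩⟩))
  have hmul := (Subgroup.centralizer ({zz} : Set grp)).card_mul_index
  rw [card_grp, ← horb] at hmul
  nlinarith

theorem mem_cen_of_comm {g : Equiv.Perm (Fin D.n)} (hg : g ∈ grp) (hc : g * z = z * g) :
    g ∈ cen := by
  set zz : grp := ⟨z, z_spec.2.2.2⟩
  have hle : cen.subgroupOf grp ≤ Subgroup.centralizer ({zz} : Set grp) := fun x hx =>
    Subgroup.mem_centralizer_singleton_iff.2 (Subtype.ext
      (Subgroup.mem_centralizer_singleton_iff.1 (cen_le.2.1 hx)))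
  have heq : cen.subgroupOf grp = Subgroup.centralizer ({zz} : Set grp) := by
    refine Subgroup.eq_of_le_of_card_ge hle (card_centralizer_le.trans ?_)
    rw [Nat.card_congr (Subgroup.subgroupOfEquivOfLe cen_le.1).toEquiv]
    exact Nat.le_of_dvd Nat.card_pos dvd_card_cen
  have : (⟨g, hg⟩ : grp) ∈ cen.subgroupOf grp := by
    rw [heq]
    exact Subgroup.mem_centralizer_singleton_iff.2 (Subtype.ext hc)
  exact Subgroup.mem_subgroupOf.1 this

theorem card_cen : Nat.card cen = 1920 := by
  refine le_antisymm ?_ (Nat.le_of_dvd Nat.card_pos dvd_card_cen)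
  refine le_trans ?_ card_centralizer_le
  rw [← Nat.card_congr (Subgroup.subgroupOfEquivOfLe cen_le.1).toEquiv]
  exact Subgroup.card_le_of_le fun x hx => Subgroup.mem_centralizer_singleton_iff.2 (Subtype.ext
    (Subgroup.mem_centralizer_singleton_iff.1 (cen_le.2.1 hx)))

/-- outside the core nothing in the Sylow subgroup centralizes it -/
def centricOK : Bool :=
  allBelow (fun j => rList.contains j || rList.any (fun r => !commOK (el j) (el r))) 128

theorem centric_ok : centricOK = true := by decide +kernel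

theorem centralizer_core {g : Equiv.Perm (Fin D.n)} (hg : g ∈ grp)
    (hc : ∀ r ∈ core, r * g = g * r) : g ∈ core := by
  have hgc : g ∈ cen := mem_cen_of_comm hg (hc z z_mem_core).symm
  set C : Subgroup cen := (Subgroup.centralizer (core : Set (Equiv.Perm (Fin D.n)))).subgroupOf cen
  have : C.Normal := by
    refine ⟨fun x hx y => ?_⟩
    intro r hr
    have hy := cen_le.2.2 y.2
    have h1 := hx _ ((Subgroup.mem_normalizer_iff''.1 hy r).1 hr)
    show r * ((y : Equiv.Perm (Fin D.n)) * x * (y : Equiv.Perm (Fin D.n))⁻¹) =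
      (y : Equiv.Perm (Fin D.n)) * x * (y : Equiv.Perm (Fin D.n))⁻¹ * r
    calc r * ((y : Equiv.Perm (Fin D.n)) * x * (y : Equiv.Perm (Fin D.n))⁻¹)
        = y * (((y : Equiv.Perm (Fin D.n))⁻¹ * r * y) * x) * (y : Equiv.Perm (Fin D.n))⁻¹ := by group
      _ = y * (x * ((y : Equiv.Perm (Fin D.n))⁻¹ * r * y)) * (y : Equiv.Perm (Fin D.n))⁻¹ :=
          congrArg (fun t => (y : Equiv.Perm (Fin D.n)) * t * (y : Equiv.Perm (Fin D.n))⁻¹) h1
      _ = _ := by group
  have hq : ∀ q ∈ [3, 5], ¬ q ∣ Nat.card C := by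
    intro q hqm hdvd
    obtain ⟨x, hx, hox, r, hr, hne⟩ := exists_order q hqm
    have hxC : (⟨x, hx⟩ : cen) ∉ C := fun h => hne (h r hr).symm
    have hqp : q.Prime := by
      simp only [List.mem_cons, List.not_mem_nil, or_false] at hqm
      rcases hqm with rfl | rfl <;> norm_num
    -- the image of `x` in the quotient has order `q`
    have ho : orderOf ((⟨x, hx⟩ : cen) : cen ⧸ C) = q := by
      refine ((Nat.dvd_prime hqp).1 ?_).resolve_left fun h => hxC ?_
      · have h2 := orderOf_map_dvd (QuotientGroup.mk' C) (⟨x, hx⟩ : cen)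
        rwa [Subgroup.orderOf_mk, hox] at h2
      · exact (QuotientGroup.eq_one_iff _).1 (orderOf_eq_one_iff.1 h)
    have h1 : q * q ∣ Nat.card cen := by
      rw [← C.card_mul_index]
      exact Nat.mul_dvd_mul hdvd (ho ▸ orderOf_dvd_natCard _)
    rw [card_cen] at h1
    simp only [List.mem_cons, List.not_mem_nil, or_false] at hqm
    rcases hqm with rfl | rfl <;> norm_num at h1
  have hC : Nat.card C ∣ 128 := by
    have h1 : Nat.card C ∣ 128 * (3 * 5) := by
      have h2 := Subgroup.card_subgroup_dvd_card C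
      rwa [card_cen] at h2
    refine (Nat.Coprime.dvd_mul_right ?_).1 h1
    refine Nat.Coprime.mul_right ?_ ?_
    · exact ((Nat.Prime.coprime_iff_not_dvd (by norm_num)).2 (hq 3 (by simp))).symm
    · exact ((Nat.Prime.coprime_iff_not_dvd (by norm_num)).2 (hq 5 (by simp))).symm
  have : Fact (Nat.Prime 2) := ⟨Nat.prime_two⟩
  have hCp : IsPGroup 2 C := by
    obtain ⟨i, -, hi⟩ := (Nat.dvd_prime_pow Nat.prime_two).1 (show Nat.card C ∣ 2 ^ 7 from hC)
    exact IsPGroup.iff_card.2 ⟨i, hi⟩
  let P : Sylow 2 cen := Sylow.ofCard (syl.subgroupOf cen) (by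
    rw [Nat.card_congr (Subgroup.subgroupOfEquivOfLe syl_le_cen).toEquiv, card_syl, card_cen,
      show (1920 : ℕ) = 2 ^ 7 * 15 by norm_num, Nat.factorization_mul (by norm_num) (by norm_num)]
    simp only [Finsupp.coe_add, Pi.add_apply, Nat.prime_two.factorization_pow, Finsupp.single_eq_same,
      Nat.factorization_eq_zero_of_not_dvd (show ¬ 2 ∣ 15 by norm_num), add_zero]
    norm_num)
  have hgsyl : g ∈ syl := by
    have hsup := P.3 (P.2.to_sup_of_normal_right hCp) le_sup_left
    have hgC : (⟨g, hgc⟩ : cen) ∈ C := fun r hr => hc r hr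
    have h2 : (⟨g, hgc⟩ : cen) ∈ (P : Subgroup cen) := hsup.le (Subgroup.mem_sup_right hgC)
    exact Subgroup.mem_subgroupOf.1 h2
  obtain ⟨j, hj, hja⟩ := mem_syl_iff.1 hgsyl
  have h := centric_ok
  simp only [centricOK, Model.allBelow_iff, Bool.or_eq_true, List.contains_eq_mem, decide_eq_true_eq,
    List.any_eq_true, Bool.not_eq_true', Bool.eq_false_iff, ne_eq] at h
  rcases h j hj with hjr | ⟨r, hr, hne⟩
  · exact mem_core_iff.2 ⟨j, hjr, hja⟩
  · obtain ⟨y, -, hy⟩ := exists_elem r (rList_lt hr)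
    exact absurd ((commute_iff hja hy).2 (hc y (mem_core_iff.2 ⟨r, hr, hy⟩)).symm) hne

/-! ### The fusion closure -/

/-- one step -/
def stepOK (known : List ℕ) : Bool × ℕ × ℕ × ℕ → Bool
  | (false, x, y, t) => x.blt known.length && y.blt known.length && t.blt 128 &&
      compOK (el t) (el (known.getD x 0)) (el (known.getD y 0))
  | (true, x, k, t) => x.blt known.length && k.blt conjWords.length && t.blt 128 &&
      allBelow (fun i => img (el t) (img (conjPacks.getD k 0) i) ==
        img (conjPacks.getD k 0) (img (el (known.getD x 0)) i)) 100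

/-- all steps, reaching the generators -/
def closureOK : List ℕ → List (Bool × ℕ × ℕ × ℕ) → Bool
  | known, [] => allBelow (fun k => known.any fun j =>
      allBelow (fun i => img (el j) i == img (sgPacks.getD k 0) i) 100) 3
  | known, e :: es => stepOK known e && closureOK (known ++ [e.2.2.2]) es

theorem closure_ok : (closureOK [zIdx] steps &&
    allBelow (fun k => packOK D (conjWords.getD k []) (conjPacks.getD k 0)) conjWords.length) = true := by
  decide +kernel

/-! ### The fusion system -/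

variable {G : Type*} [Group G]

theorem closed_eq_top (ψ : G →* Equiv.Perm (Fin D.n)) (hψ : ψ.range = grp) {T : Subgroup G}
    {w : G} (hw : w ∈ T) (hwz : ψ w = z)
    (hcl : ∀ g x, x ∈ T → ψ (g * x * g⁻¹) ∈ syl → g * x * g⁻¹ ∈ T) : syl ≤ T.map ψ := by
  obtain ⟨hok, hpacks⟩ := Bool.and_eq_true_iff.1 closure_ok
  simp only [Model.allBelow_iff] at hpacks
  have key : ∀ (es : List (Bool × ℕ × ℕ × ℕ)) (known : List ℕ),
      (∀ j ∈ known, ∃ x ∈ T, Rep (el j) (ψ x)) → closureOK known es = true →
      ∀ k < 3, gen' k ∈ T.map ψ := by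
    intro es
    induction es with
    | nil =>
      intro known hk hok k hk3
      simp only [closureOK, Model.allBelow_iff, List.any_eq_true, beq_iff_eq] at hok
      obtain ⟨j, hj, himg⟩ := hok k hk3
      obtain ⟨x, hx, hxr⟩ := hk j hj
      exact ⟨x, hx, Equiv.ext fun i => Fin.ext
        (by rw [hxr, (gen'_spec hk3).2]; exact himg i i.2)⟩
    | cons e es ih =>
      intro known hk hok
      simp only [closureOK, Bool.and_eq_true] at hok
      refine ih _ (fun j hj => ?_) hok.2
      rcases List.mem_append.1 hj with hj | hj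
      · exact hk j hj
      rw [List.mem_singleton] at hj
      subst hj
      have hget : ∀ i, i < known.length → ∃ x ∈ T, Rep (el (known.getD i 0)) (ψ x) :=
        fun i hi => hk _ (by rw [List.getD_eq_getElem _ _ hi]; exact List.getElem_mem hi)
      obtain ⟨⟨bb, i, j, t⟩, rfl⟩ : ∃ q, e = q := ⟨e, rfl⟩
      have hst := hok.1
      cases bb with
      | false =>
        simp only [stepOK, Bool.and_eq_true, Nat.blt, Nat.ble_eq] at hst
        obtain ⟨x, hx, hxr⟩ := hget i hst.1.1.1
        obtain ⟨y, hy, hyr⟩ := hget j hst.1.1.2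
        exact ⟨x * y, T.mul_mem hx hy, map_mul ψ x y ▸ hxr.mul hyr (compOK_iff.1 hst.2)⟩
      | true =>
        simp only [stepOK, Bool.and_eq_true, Nat.blt, Nat.ble_eq, Model.allBelow_iff,
          beq_iff_eq] at hst
        obtain ⟨x, hx, hxr⟩ := hget i hst.1.1.1
        obtain ⟨hwl, hwr⟩ := packOK_sound ok (hpacks j hst.1.1.2)
        obtain ⟨g, hg⟩ : act ok (conjWords.getD j []) ∈ ψ.range :=
          hψ.symm ▸ act_mem ok sigma_mem hwl
        have hrep : Rep (el t) (ψ (g * x * g⁻¹)) := by
          intro u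
          obtain ⟨v, rfl⟩ := (ψ g).surjective u
          simp only [map_mul, map_inv, Equiv.Perm.mul_apply, Equiv.Perm.inv_def,
            Equiv.symm_apply_apply]
          rw [hg, hwr, hwr, hxr]
          exact (hst.2 v v.2).symm
        exact ⟨g * x * g⁻¹, hcl g x hx (mem_syl_iff.2 ⟨t, hst.1.2, hrep⟩), hrep⟩
  rw [syl, Subgroup.closure_le]
  rintro _ ⟨k, hk, rfl⟩
  exact key steps [zIdx] (fun j hj => ⟨w, hw, by
    rw [List.mem_singleton.1 hj, hwz]; exact z_spec.2.1⟩) hok k hk

theorem isSimple_sylow [Finite G] (ψ : G →* Equiv.Perm (Fin D.n)) (hinj : Function.Injective ψ)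
    (hψ : ψ.range = grp) (S : Sylow 2 G) (hS : (S : Subgroup G) = syl.comap ψ) :
    (Cfsg.groupFusionSystem (S : Subgroup G)).IsSimple 2 := by
  have hlift : ∀ {b : Equiv.Perm (Fin D.n)}, b ∈ grp → ∃ g, ψ g = b := fun hb => by
    rw [← hψ] at hb; exact hb
  have hmem : ∀ x, x ∈ (S : Subgroup G) ↔ ψ x ∈ syl := fun x => by rw [hS]; rfl
  obtain ⟨w, hw⟩ := hlift z_spec.2.2.2
  refine Fus.CentralInvolution.isSimple S (z := w) (R := core.comap ψ) ((hmem w).2 (hw ▸ z_spec.1))
    (fun h => z_spec.2.2.1 (by rw [← hw, h, map_one])) ?_ ?_ ?_ ?_ ?_ ?_ ?_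
  · intro s hs
    exact hinj (by rw [map_mul, map_mul, hw]; exact z_comm _ ((hmem s).1 hs))
  · intro x hx hc
    refine (z_unique ((hmem x).1 hx) fun s hs => ?_).imp (fun h => hinj (h.trans (map_one ψ).symm))
      fun h => hinj (h.trans hw.symm)
    obtain ⟨s', rfl⟩ := hlift (syl_le hs)
    rw [← map_mul, ← map_mul, hc s' ((hmem s').2 hs)]
  · intro x hx
    exact (hmem x).2 (core_le hx)
  · intro s hs
    refine Subgroup.mem_normalizer_fintype fun x hx => ?_
    show ψ (s * x * s⁻¹) ∈ core
    rw [map_mul, map_mul, map_inv]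
    exact (Subgroup.mem_normalizer_iff.1 (cen_le.2.2 (syl_le_cen ((hmem s).1 hs))) _).1 hx
  · intro x hx
    refine centralizer_core (hψ ▸ ⟨x, rfl⟩) fun r hr => ?_
    obtain ⟨r', rfl⟩ := hlift (syl_le (core_le hr))
    rw [← map_mul, ← map_mul, hx r' hr]
  · intro g hg
    have h1 : ψ g ∈ cen := mem_cen_of_comm (hψ ▸ ⟨g, rfl⟩) (by rw [← hw, ← map_mul, hg, map_mul])
    suffices ∀ b ∈ cen, ∀ a, ψ a = b → a ∈ Subgroup.closure
        {a : G | a ∈ Subgroup.normalizer ((core.comap ψ : Subgroup G) : Set G) ∧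
          ∃ k : ℕ, orderOf a = 2 ^ k} from this _ h1 g rfl
    intro b hb
    rw [cen] at hb
    induction hb using Subgroup.closure_induction with
    | mem y hy =>
      intro a ha
      obtain ⟨u, hu, rfl⟩ := hy
      refine Subgroup.subset_closure ⟨Subgroup.mem_normalizer_fintype fun x hx => ?_, ?_⟩
      · show ψ (a * x * a⁻¹) ∈ core
        rw [map_mul, map_mul, map_inv, ha]
        exact (Subgroup.mem_normalizer_iff.1 (normGen_normalizes hu) _).1 hx
      · rw [← orderOf_injective ψ hinj a, ha]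
        by_cases h3 : u < 3
        · have hu' : normGen u ∈ syl :=
            Subgroup.subset_closure ⟨u, h3, by simp only [normGen, h3, if_true]⟩
          have hd : orderOf (normGen u) ∣ 2 ^ 7 := by
            have := Subgroup.orderOf_dvd_natCard _ hu'
            rwa [card_syl] at this
          obtain ⟨i, -, hi⟩ := (Nat.dvd_prime_pow Nat.prime_two).1 hd
          exact ⟨i, hi⟩
        · obtain ⟨k, rfl⟩ : ∃ k, u = k + 3 := ⟨u - 3, by omega⟩
          have hd : orderOf (normGen (k + 3)) ∣ 2 ^ 1 := orderOf_dvd_of_pow_eq_one (by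
            rw [pow_one, sq]; exact (jgen_spec (by omega)).2.2.2)
          obtain ⟨i, -, hi⟩ := (Nat.dvd_prime_pow Nat.prime_two).1 hd
          exact ⟨i, hi⟩
    | one =>
      intro a ha
      rw [hinj (ha.trans (map_one ψ).symm)]
      exact one_mem _
    | mul x y hx hy ihx ihy =>
      intro a ha
      obtain ⟨x', hx'⟩ := hlift (cen_le.1 hx)
      obtain ⟨y', hy'⟩ := hlift (cen_le.1 hy)
      rw [hinj (show ψ a = ψ (x' * y') by rw [map_mul, hx', hy', ha])]
      exact mul_mem (ihx x' hx') (ihy y' hy')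
    | inv x hx ihx =>
      intro a ha
      rw [← inv_inv a]
      exact inv_mem (ihx a⁻¹ (by rw [map_inv, ha, inv_inv]))
  · intro T hTS hwT hcl x hx
    obtain ⟨y, hy, hyx⟩ := closed_eq_top ψ hψ hwT hw
      (fun g y hy hgy => hcl g y hy ((hmem _).2 hgy)) ((hmem x).1 hx)
    rwa [← hinj hyx]

/-- The `2`-fusion system of a group isomorphic to the group on 100 points is simple. -/
theorem isSimple [Finite G] (e : G ≃* grp) (S : Sylow 2 G) :
    (Cfsg.groupFusionSystem (S : Subgroup G)).IsSimple 2 := by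
  have : Fact (Nat.Prime 2) := ⟨Nat.prime_two⟩
  let ψ : G →* Equiv.Perm (Fin D.n) := grp.subtype.comp e.toMonoidHom
  have hinj : Function.Injective ψ := Subtype.coe_injective.comp e.injective
  have hψ : ψ.range = grp := by
    rw [MonoidHom.range_comp, MonoidHom.range_eq_top.2 e.surjective,
      ← MonoidHom.range_eq_map, Subgroup.range_subtype]
  have hcard : Nat.card (syl.comap ψ) = 128 := by
    rw [← card_syl, ← Subgroup.card_map_of_injective hinj,
      Subgroup.map_comap_eq_self (hψ.symm ▸ syl_le)]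
  let S₀ : Sylow 2 G := Sylow.ofCard (syl.comap ψ) (by
    rw [hcard, Nat.card_congr e.toEquiv, card_grp, show (604800 : ℕ) = 2 ^ 7 * 4725 by norm_num,
      Nat.factorization_mul (by norm_num) (by norm_num)]
    simp only [Finsupp.coe_add, Pi.add_apply, Nat.prime_two.factorization_pow, Finsupp.single_eq_same,
      Nat.factorization_eq_zero_of_not_dvd (show ¬ 2 ∣ 4725 by norm_num), add_zero]
    norm_num)
  obtain ⟨c, rfl⟩ := MulAction.exists_smul_eq G S₀ S
  refine isSimple_sylow (ψ.comp (MulAut.conj c⁻¹).toMonoidHom)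
    (hinj.comp (MulEquiv.injective _)) ?_ _ ?_
  · rw [MonoidHom.range_comp, MonoidHom.range_eq_top.2 (MulEquiv.surjective _),
      ← MonoidHom.range_eq_map, hψ]
  · ext x
    rw [Sylow.coe_subgroup_smul, Subgroup.mem_pointwise_smul_iff_inv_smul_mem]
    show _ ↔ ψ (c⁻¹ * x * c⁻¹⁻¹) ∈ syl
    rw [inv_inv]
    simp [S₀, MulAut.smul_def, Sylow.coe_ofCard]

end CfsgLib.SporJ2.Fusion
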