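import Cfsg.Agent.SporJ2.Iso

/-!
The centre of `2·J2` is `{±1}`: an element commuting with all reflections multiplies the three
axis vectors by units, and these units are forced to be a common sign.
-/

set_option autoImplicit false
set_option maxRecDepth 100000

noncomputable section

namespace CfsgLib.SporJ2.LineAction

open Quaternion
open Cfsg.Spor

theorem unit_of_norm_one {u : ℍ[ℝ]} (hu : u ∈ icosians) (h1 : star u * u = 1) :
    ∃ w ∈ Data.units, w.val = u := by
  obtain ⟨p, hp, rfl⟩ := Q2.mem_icosians.1 hu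
  have hn : Quaternion.normSq p.val = 1 := by
    have e : ((Quaternion.normSq p.val : ℝ) : ℍ[ℝ]) = ((1 : ℝ) : ℍ[ℝ]) := by
      rw [← Quaternion.star_mul_self, h1]; rfl
    exact Quaternion.coe_injective e
  have hs : p.sq = ⟨4, 0⟩ := Zi.val_injective (by rw [Q2.val_sq, hn]; simp [Zi.val])
  have hsmall : tsq p ≤ 16 := by simp [tsq, hs, Zi.tr]
  have hlist : smallList.all (fun q => !(q.sq == (⟨4, 0⟩ : Zi)) || Data.units.contains q) = true := by
    decide +kernel
  have := List.all_eq_true.1 hlist p (mem_smallList hp hsmall)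
  simp only [hs, beq_self_eq_true, Bool.not_true, Bool.false_or, List.contains_iff_mem] at this
  exact ⟨p, this, rfl⟩

/-- minimal vectors and their lines -/
theorem exists_unit_rep {v : Fin 3 → ℍ[ℝ]} (hv : v ∈ icoLeech) (h4 : qip v v = 4) :
    ∃ (j : Fin 315) (w : Q2), w ∈ Data.units ∧ v = fun t => w.val * (rep j).val t := by
  obtain ⟨r, hr, u, huI, hu, rfl⟩ := isLine_of_qip hv h4
  obtain ⟨k, hk, rfl⟩ := List.getElem_of_mem hr
  obtain ⟨w, hw, rfl⟩ := unit_of_norm_one huI hu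
  exact ⟨⟨k, hk.trans_eq length_lineReps⟩, w, hw, rfl⟩

/-- lattice maps respecting the module structure and the Hermitian product -/
def IsLinearIsom (g : Equiv.Perm icoLeech) : Prop :=
  (∀ x y z : icoLeech, (x : Fin 3 → ℍ[ℝ]) = (fun t => (y : Fin 3 → ℍ[ℝ]) t - (z : Fin 3 → ℍ[ℝ]) t) →
    (g x : Fin 3 → ℍ[ℝ]) = fun t => (g y : Fin 3 → ℍ[ℝ]) t - (g z : Fin 3 → ℍ[ℝ]) t) ∧
  (∀ (a : ℍ[ℝ]) (x y : icoLeech), (x : Fin 3 → ℍ[ℝ]) = (fun t => a * (y : Fin 3 → ℍ[ℝ]) t) →
    (g x : Fin 3 → ℍ[ℝ]) = fun t => a * (g y : Fin 3 → ℍ[ℝ]) t) ∧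
  ∀ x y : icoLeech, qip (g x : Fin 3 → ℍ[ℝ]) (g y : Fin 3 → ℍ[ℝ]) =
    qip (x : Fin 3 → ℍ[ℝ]) (y : Fin 3 → ℍ[ℝ])

theorem isLinearIsom_gen_mul (i : Fin 4) {g : Equiv.Perm icoLeech} (hg : IsLinearIsom g) :
    IsLinearIsom (gen i * g) := by
  refine ⟨fun x y z h => ?_, fun a x y h => ?_,
    fun x y => (qip_qrefl_qrefl (rep_spec _).2.2 _ _).trans (hg.2.2 x y)⟩
  · show qrefl _ (g x : Fin 3 → ℍ[ℝ]) = _
    rw [hg.1 x y z h]; exact qrefl_sub _ _ _
  · show qrefl _ (g x : Fin 3 → ℍ[ℝ]) = _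
    rw [hg.2.1 a x y h]; exact qrefl_mul _ _ _

theorem isLinearIsom_of_mem {g : Equiv.Perm icoLeech} (hg : g ∈ twoJ2) : IsLinearIsom g := by
  rw [twoJ2_eq] at hg
  induction hg using Subgroup.closure_induction_left with
  | one => exact ⟨fun x y z h => h, fun a x y h => h, fun x y => rfl⟩
  | mul_left x hx y _ ih =>
    obtain ⟨i, rfl⟩ := hx
    exact isLinearIsom_gen_mul i ih
  | inv_mul_cancel x hx y _ ih =>
    obtain ⟨i, rfl⟩ := hx
    rw [gen_inv]
    exact isLinearIsom_gen_mul i ih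

/-- An element fixing all reflections by conjugation maps a minimal vector to a unit multiple. -/
theorem exists_unit_mul {g : twoJ2} (hg : lineHom g = 1) {v : icoLeech}
    (h4 : qip (v : Fin 3 → ℍ[ℝ]) v = 4) :
    ∃ a ∈ Data.units, ((g : Equiv.Perm icoLeech) v : Fin 3 → ℍ[ℝ]) =
      fun t => a.val * (v : Fin 3 → ℍ[ℝ]) t := by
  set f : Equiv.Perm icoLeech := (g : Equiv.Perm icoLeech) with hf
  obtain ⟨-, hsmul, hip⟩ := isLinearIsom_of_mem g.2
  obtain ⟨j, w, hw, hv⟩ := exists_unit_rep v.2 h4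
  obtain ⟨k, w', hw', hv'⟩ := exists_unit_rep (f v).2 ((hip v v).trans h4)
  have hconj := lineHom_spec g j
  rw [hg, Equiv.Perm.one_apply] at hconj
  have hfix : ∀ x : icoLeech, f (reflection j x) = reflection j (f x) := fun x => by
    conv_rhs => rw [← hconj]
    simp [f]
  -- both reflections negate the image
  have hneg : ∀ {u : Q2} {i : Fin 315}, u ∈ Data.units →
      qrefl (rep i).val (fun t => u.val * (rep i).val t) = fun t => -(u.val * (rep i).val t) := by
    intro u i _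
    funext t
    rw [qrefl_mul]
    show u.val * ((rep i).val t - (1 / 2 : ℝ) • qip (rep i).val (rep i).val * (rep i).val t) = _
    rw [(rep_spec i).2.2, show (1 / 2 : ℝ) • (4 : ℍ[ℝ]) = 2 by
      ext <;> simp [show (4 : ℍ[ℝ]) = ((4 : ℝ) : ℍ[ℝ]) from rfl,
        show (2 : ℍ[ℝ]) = ((2 : ℝ) : ℍ[ℝ]) from rfl] <;> norm_num]
    rw [two_mul]
    simp
  have h1 : qrefl (rep j).val (f v : Fin 3 → ℍ[ℝ]) = fun t => -(f v : Fin 3 → ℍ[ℝ]) t := by
    have hvneg : reflection j v = ⟨fun t => -(v : Fin 3 → ℍ[ℝ]) t, by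
        have h0 := icoLeech_sub (icoLeech_sub v.2 v.2) v.2
        simpa using h0⟩ := by
      refine Subtype.ext ((isRefl_reflection j v).trans ?_)
      show qrefl _ (v : Fin 3 → ℍ[ℝ]) = fun t => -(v : Fin 3 → ℍ[ℝ]) t
      rw [hv]; exact hneg hw
    have := isRefl_reflection j (f v)
    rw [← hfix, hvneg] at this
    rw [← this, hsmul (-1) _ v (by funext t; simp)]
    funext t
    simp [f]
  -- hence the image lies on line `j`
  set c := (1 / 2 : ℝ) • qip (f v : Fin 3 → ℍ[ℝ]) (rep j).val with hc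
  have hline : ∀ t, (f v : Fin 3 → ℍ[ℝ]) t + (f v : Fin 3 → ℍ[ℝ]) t = c * (rep j).val t := fun t => by
    have e : (f v : Fin 3 → ℍ[ℝ]) t - c * (rep j).val t = -(f v : Fin 3 → ℍ[ℝ]) t := congrFun h1 t
    rw [sub_eq_iff_eq_add] at e
    conv_lhs => arg 1; rw [e]
    abel
  obtain ⟨hwI, hws, hwn⟩ := unit_spec hw
  obtain ⟨hwI', hws', hwn'⟩ := unit_spec hw'
  -- so the two lines agree
  have hkj : k = j := by
    refine reflection_injective (Equiv.ext fun x => Subtype.ext ?_)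
    rw [isRefl_reflection, isRefl_reflection]
    have hd : (fun t => ((1 / 2 : ℝ) • c) * (rep j).val t) = fun t => w'.val * (rep k).val t := by
      funext t
      rw [← congrFun hv' t, smul_mul_assoc, ← hline t, ← two_smul ℝ, smul_smul]
      norm_num
    have hn : star ((1 / 2 : ℝ) • c) * ((1 / 2 : ℝ) • c) = 1 := by
      have e1 : qip (fun t => ((1 / 2 : ℝ) • c) * (rep j).val t)
          (fun t => ((1 / 2 : ℝ) • c) * (rep j).val t) = 4 := by
        rw [hd, ← hv']; exact (hip v v).trans h4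
      rw [qip_mul, qip_mul_right, (rep_spec j).2.2] at e1
      have e2 : Quaternion.normSq ((1 / 2 : ℝ) • c) = 1 := by
        have e3 := congrArg QuaternionAlgebra.re e1
        rw [show (4 : ℍ[ℝ]) = ((4 : ℝ) : ℍ[ℝ]) from rfl, Quaternion.coe_mul_eq_smul, mul_smul_comm,
          Quaternion.self_mul_star] at e3
        simp only [Quaternion.re_smul, Quaternion.re_coe, smul_eq_mul] at e3
        linarith
      rw [Quaternion.star_mul_self, e2]; rfl
    rw [← qrefl_unit hws' (rep k).val, ← hd, qrefl_unit hn]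
  subst hkj
  obtain ⟨u, hu, hue⟩ := unit_of_norm_one (mul_mem (Q2.inI_val hwI')
    (Q2.val_conj w ▸ Q2.inI_val (Q2.inI_conj hwI))) (by
      rw [star_mul, star_star, mul_assoc, ← mul_assoc (star w'.val), hws', one_mul,
        Quaternion.self_mul_star, hwn]
      rfl)
  refine ⟨u, hu, ?_⟩
  rw [hv', hue, hv]
  funext t
  rw [mul_assoc, ← mul_assoc (star w.val), hws, one_mul]

/-- twice a unit axis vector -/
def axis (t : Fin 3) : Tri :=
  ![⟨⟨⟨4, 0⟩, 0, 0, 0⟩, 0, 0⟩, ⟨0, ⟨⟨4, 0⟩, 0, 0, 0⟩, 0⟩, ⟨0, 0, ⟨⟨4, 0⟩, 0, 0, 0⟩⟩] t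

theorem axis_ok : ∀ t, (axis t).inL = true ∧ (axis t).sq = ⟨16, 0⟩ := by decide +kernel

theorem axis_val (t s : Fin 3) : (axis t).val s = if s = t then 2 else 0 := by
  have h2 : (⟨⟨4, 0⟩, 0, 0, 0⟩ : Q2).val = 2 := by
    rw [show (2 : ℍ[ℝ]) = ((2 : ℝ) : ℍ[ℝ]) from rfl]
    ext <;> simp [Zi.val, Zi.zero_def] <;> norm_num
  fin_cases t <;> fin_cases s <;> simp [axis, h2, Q2.val_zero]

theorem axis_qip (t : Fin 3) : qip (axis t).val (axis t).val = 4 := by
  rw [Tri.qip_self, (axis_ok t).2, show Zi.val (⟨16, 0⟩ : Zi) / 4 = (4 : ℝ) by simp [Zi.val]; norm_num]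
  rfl

/-- the axis vector in the lattice -/
def axisL (t : Fin 3) : icoLeech := ⟨(axis t).val, (Tri.inL_iff _).1 (axis_ok t).1⟩

theorem natCast_ne_zero {n : ℕ} (hn : n ≠ 0) : (n : ℍ[ℝ]) ≠ 0 := by
  rw [show (n : ℍ[ℝ]) = ((n : ℝ) : ℍ[ℝ]) from rfl, ← Quaternion.coe_zero]
  exact Quaternion.coe_injective.ne (Nat.cast_ne_zero.2 hn)

theorem two_ne : (2 : ℍ[ℝ]) ≠ 0 := natCast_ne_zero (n := 2) two_ne_zero

theorem four_ne : (4 : ℍ[ℝ]) ≠ 0 := natCast_ne_zero (n := 4) four_ne_zero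

/-- A kernel element is a diagonal of units. -/
theorem diagonal_of_ker {g : twoJ2} (hg : lineHom g = 1) :
    ∃ a : Fin 3 → Q2, (∀ t, a t ∈ Data.units) ∧ ∀ (x : icoLeech) (t : Fin 3),
      ((g : Equiv.Perm icoLeech) x : Fin 3 → ℍ[ℝ]) t = (x : Fin 3 → ℍ[ℝ]) t * (a t).val := by
  obtain ⟨hsub, hsmul, -⟩ := isLinearIsom_of_mem g.2
  choose a ha hae using fun t => exists_unit_mul hg (v := axisL t) (axis_qip t)
  refine ⟨a, ha, fun x s => ?_⟩
  set f : Equiv.Perm icoLeech := (g : Equiv.Perm icoLeech)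
  let p : Fin 3 → icoLeech := fun t => ⟨fun s => (x : Fin 3 → ℍ[ℝ]) t * (axis t).val s,
    icoLeech_mul (x.2.1 t) (axisL t).2⟩
  let n : Fin 3 → icoLeech := fun t => ⟨fun s => (-1 : ℍ[ℝ]) * (p t : Fin 3 → ℍ[ℝ]) s,
    icoLeech_mul (neg_mem (one_mem _)) (p t).2⟩
  let d : icoLeech := ⟨fun s => (p 0 : Fin 3 → ℍ[ℝ]) s - (n 1 : Fin 3 → ℍ[ℝ]) s,
    icoLeech_sub (p 0).2 (n 1).2⟩
  let y : icoLeech := ⟨fun s => (d : Fin 3 → ℍ[ℝ]) s - (n 2 : Fin 3 → ℍ[ℝ]) s,
    icoLeech_sub d.2 (n 2).2⟩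
  let y2 : icoLeech := ⟨fun s => (2 : ℍ[ℝ]) * (x : Fin 3 → ℍ[ℝ]) s,
    icoLeech_mul (one_add_one_eq_two (R := ℍ[ℝ]) ▸ add_mem (one_mem _) (one_mem _)) x.2⟩
  have hy : y = y2 := Subtype.ext (funext fun s => by
    fin_cases s <;> simp [-Tri.val_zero, -Tri.val_one, -Tri.val_two, y, y2, d, n, p, axis_val, two_mul, mul_two])
  have key := congrFun (hsmul 2 y2 x rfl) s
  rw [← hy, congrFun (hsub y d (n 2) rfl) s, congrFun (hsub d (p 0) (n 1) rfl) s,
    congrFun (hsmul _ (n 2) (p 2) rfl) s, congrFun (hsmul _ (n 1) (p 1) rfl) s,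
    congrFun (hsmul _ (p 0) (axisL 0) rfl) s, congrFun (hsmul _ (p 1) (axisL 1) rfl) s,
    congrFun (hsmul _ (p 2) (axisL 2) rfl) s, congrFun (hae 0) s, congrFun (hae 1) s,
    congrFun (hae 2) s] at key
  change (x : Fin 3 → ℍ[ℝ]) 0 * ((a 0).val * (axis 0).val s) -
      -1 * ((x : Fin 3 → ℍ[ℝ]) 1 * ((a 1).val * (axis 1).val s)) -
      -1 * ((x : Fin 3 → ℍ[ℝ]) 2 * ((a 2).val * (axis 2).val s)) =
    2 * ((f x : Fin 3 → ℍ[ℝ]) s) at key
  refine (mul_right_injective₀ two_ne ?_)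
  show 2 * _ = 2 * _
  rw [← key]
  fin_cases s <;> simp [-Tri.val_zero, -Tri.val_one, -Tri.val_two, axis_val, mul_two, two_mul, mul_add]

/-- the lines with first coordinate one -/
def normalLines : List Tri := Data.lineReps.filter fun r => r.x == Q2.one

/-- a diagonal of units compatible with all these lines -/
def compatible (a b c : Q2) : Bool :=
  normalLines.all fun r => Q2.hmul r.y b == Q2.hmul a r.y && Q2.hmul r.z c == Q2.hmul a r.z

theorem compatible_sign : Data.units.all (fun a => Data.units.all fun b =>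
    bif (match normalLines[0]? with
      | some r => Q2.hmul r.y b == Q2.hmul a r.y
      | none => true) then Data.units.all fun c => !compatible a b c ||
        (a == b && a == c && (a == Q2.one || a == -Q2.one))
    else true) = true := by
  decide +kernel

theorem sign_of_ker {g : twoJ2} (hg : lineHom g = 1) :
    (∀ x : icoLeech, ((g : Equiv.Perm icoLeech) x : Fin 3 → ℍ[ℝ]) = x) ∨
    (∀ x : icoLeech, ((g : Equiv.Perm icoLeech) x : Fin 3 → ℍ[ℝ]) = -(x : Fin 3 → ℍ[ℝ])) := by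
  obtain ⟨a, ha, hd⟩ := diagonal_of_ker hg
  have hc : ∀ r ∈ normalLines, Q2.hmul r.y (a 1) = Q2.hmul (a 0) r.y ∧
      Q2.hmul r.z (a 2) = Q2.hmul (a 0) r.z := by
    intro r hr
    obtain ⟨hr1, hr2⟩ := List.mem_filter.1 hr
    rw [beq_iff_eq] at hr2
    obtain ⟨hL, hs⟩ := inL_of_all hr1
    have hI : r.inI = true := by simp only [Tri.inL, Bool.and_eq_true] at hL; exact hL.1
    obtain ⟨hx, hy, hz⟩ := (Tri.inI_iff r).1 hI
    have h4 : qip r.val r.val = 4 := by
      rw [Tri.qip_self, hs, show Zi.val (⟨16, 0⟩ : Zi) / 4 = (4 : ℝ) by simp [Zi.val]; norm_num]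
      rfl
    obtain ⟨u, hu, hue⟩ := exists_unit_mul hg (v := ⟨r.val, (Tri.inL_iff r).1 hL⟩) h4
    have e0 := (congrFun hue 0).symm.trans (hd _ 0)
    have e1 := (congrFun hue 1).symm.trans (hd _ 1)
    have e2 := (congrFun hue 2).symm.trans (hd _ 2)
    simp only [Tri.val_zero, Tri.val_one, Tri.val_two, hr2, Q2.val_one, mul_one, one_mul] at e0 e1 e2
    rw [e0] at e1 e2
    have hI' := fun t => (unit_spec (ha t)).1
    exact ⟨Q2.val_injective (by rw [Q2.val_mul_of_inI hy (hI' 1), Q2.val_mul_of_inI (hI' 0) hy, e1]),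
      Q2.val_injective (by rw [Q2.val_mul_of_inI hz (hI' 2), Q2.val_mul_of_inI (hI' 0) hz, e2])⟩
  have hcomp : compatible (a 0) (a 1) (a 2) = true := by
    rw [compatible, List.all_eq_true]
    intro r hr
    simp [hc r hr]
  have h := List.all_eq_true.1 (List.all_eq_true.1 compatible_sign _ (ha 0)) _ (ha 1)
  have hfirst : (match normalLines[0]? with
      | some r => Q2.hmul r.y (a 1) == Q2.hmul (a 0) r.y
      | none => true) = true := by
    cases hn : normalLines[0]? with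
    | none => rfl
    | some r => simp [(hc r (List.mem_of_getElem? hn)).1]
  rw [hfirst, cond_true] at h
  have h' := List.all_eq_true.1 h _ (ha 2)
  simp only [hcomp, Bool.not_true, Bool.false_or, Bool.and_eq_true, Bool.or_eq_true, beq_iff_eq] at h'
  obtain ⟨⟨h01, h02⟩, h1 | h1⟩ := h'
  · left
    intro x
    funext t
    rw [hd x t]
    fin_cases t <;> simp [← h01, ← h02, h1, Q2.val_one]
  · right
    intro x
    funext t
    rw [hd x t]
    fin_cases t <;> simp [← h01, ← h02, h1, Q2.val_neg, Q2.val_one]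

/-- the product of the three axis reflections is `-1` -/
theorem exists_neg_one : ∃ z : twoJ2, lineHom z = 1 ∧
    ∀ x : icoLeech, ((z : Equiv.Perm icoLeech) x : Fin 3 → ℍ[ℝ]) = -(x : Fin 3 → ℍ[ℝ]) := by
  choose j w hw hj using fun t => exists_unit_rep (axisL t).2 (axis_qip t)
  have hmem : ∀ t, reflection (j t) ∈ twoJ2 := fun t => twoJ2_eq ▸ reflection_mem _
  have happ : ∀ (t : Fin 3) (x : icoLeech) (s : Fin 3),
      (reflection (j t) x : Fin 3 → ℍ[ℝ]) s =
        if s = t then -(x : Fin 3 → ℍ[ℝ]) s else (x : Fin 3 → ℍ[ℝ]) s := by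
    intro t x s
    rw [isRefl_reflection, ← qrefl_unit (unit_spec (hw t)).2.1 (rep (j t)).val,
      show (fun s => (w t).val * (rep (j t)).val s) = (axis t).val from (hj t).symm]
    have hq : qip (x : Fin 3 → ℍ[ℝ]) (axis t).val = (x : Fin 3 → ℍ[ℝ]) t * 2 := by
      rw [qip, Finset.sum_eq_single t (fun b _ hb => by rw [axis_val, if_neg hb, star_zero, mul_zero])
        (fun h => absurd (Finset.mem_univ t) h), axis_val, if_pos rfl]
      congr 1
      exact Quaternion.star_coe (2 : ℝ)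
    show (x : Fin 3 → ℍ[ℝ]) s - (1 / 2 : ℝ) • qip (x : Fin 3 → ℍ[ℝ]) (axis t).val * (axis t).val s = _
    rw [hq, axis_val]
    split_ifs with hst
    · subst hst
      rw [smul_mul_assoc, mul_assoc, show (2 : ℍ[ℝ]) * 2 = 2 + 2 by rw [two_mul], mul_add, mul_two]
      module
    · simp
  let z : twoJ2 := ⟨reflection (j 0) * (reflection (j 1) * reflection (j 2)),
    mul_mem (hmem 0) (mul_mem (hmem 1) (hmem 2))⟩
  have hz : ∀ x : icoLeech, ((z : Equiv.Perm icoLeech) x : Fin 3 → ℍ[ℝ]) = -(x : Fin 3 → ℍ[ℝ]) := by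
    intro x
    funext s
    show (reflection (j 0) (reflection (j 1) (reflection (j 2) x)) : Fin 3 → ℍ[ℝ]) s = _
    fin_cases s <;> simp [happ]
  refine ⟨z, Equiv.ext fun k => reflection_injective ?_, hz⟩
  rw [← lineHom_spec, Equiv.Perm.one_apply, mul_inv_eq_iff_eq_mul]
  refine Equiv.ext fun x => Subtype.ext ?_
  show ((z : Equiv.Perm icoLeech) (reflection k x) : Fin 3 → ℍ[ℝ]) =
    (reflection k ((z : Equiv.Perm icoLeech) x) : Fin 3 → ℍ[ℝ])
  rw [hz, isRefl_reflection, isRefl_reflection, hz,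
    show (-(x : Fin 3 → ℍ[ℝ])) = (fun t => (-1 : ℍ[ℝ]) * (x : Fin 3 → ℍ[ℝ]) t) by funext t; simp,
    qrefl_mul]
  funext t; simp

theorem center_eq_ker : Subgroup.center twoJ2 = lineHom.ker := by
  refine le_antisymm (fun g hg => MonoidHom.mem_ker.2 (Equiv.ext fun j => reflection_injective ?_))
    ker_le_center
  rw [← lineHom_spec, Equiv.Perm.one_apply, mul_inv_eq_iff_eq_mul]
  have hm : reflection j ∈ twoJ2 := twoJ2_eq ▸ reflection_mem j
  exact (congrArg Subtype.val (Subgroup.mem_center_iff.1 hg ⟨_, hm⟩)).symm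

theorem card_center : Nat.card (Subgroup.center twoJ2) = 2 := by
  obtain ⟨z, hz1, hz⟩ := exists_neg_one
  have hne : z ≠ 1 := by
    intro h
    have := congrFun (hz (axisL 0)) 0
    rw [h] at this
    simp [-Tri.val_zero, -Tri.val_one, -Tri.val_two, axisL, axis_val] at this
    exact four_ne (by rw [show (4 : ℍ[ℝ]) = 2 + 2 by norm_num]; nth_rw 2 [this]; simp)
  rw [center_eq_ker, Nat.card_eq_two_iff]
  refine ⟨⟨z, hz1⟩, 1, fun h => hne (congrArg Subtype.val h), ?_⟩
  rw [Set.eq_univ_iff_forall]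
  rintro ⟨g, hg⟩
  rcases sign_of_ker (MonoidHom.mem_ker.1 hg) with h | h
  · refine Or.inr (Subtype.ext (Subtype.ext (Equiv.ext fun x => Subtype.ext (h x))))
  · refine Or.inl (Subtype.ext (Subtype.ext (Equiv.ext fun x => Subtype.ext ((h x).trans (hz x).symm))))

theorem card_J2 : Nat.card Cfsg.Spor.J2 = 604800 := by
  obtain ⟨e⟩ := CfsgLib.SporJ2.exists_equiv_J2
  rw [Nat.card_congr e.toEquiv, Hundred.card_grp]

theorem card_twoJ2 : Nat.card twoJ2 = 1209600 := by
  rw [Subgroup.card_eq_card_quotient_mul_card_subgroup (Subgroup.center twoJ2), card_center]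
  exact congrArg (· * 2) card_J2

/-- The reflections are conjugate in `2·J2`. -/
theorem exists_conj (j k : Fin 315) :
    ∃ g ∈ twoJ2, g * reflection j * g⁻¹ = reflection k := by
  have key : ∀ n, ∀ hn : n < Data.lineTree.length, ∀ hb : Data.lineTree[n].1 < 315,
      ∃ g ∈ twoJ2, g * reflection (genLine 0) * g⁻¹ = reflection ⟨Data.lineTree[n].1, hb⟩ := by
    intro n
    induction n using Nat.strong_induction_on with
    | _ n ih =>
      intro hn hb
      have h := (CfsgLib.CosetEnum.Model.allBelow_iff _ _).1 tree_ok n (hn.trans_eq tree_length)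
      simp only [treeOK, List.getElem?_eq_getElem hn, Bool.and_eq_true] at h
      obtain ⟨-, h⟩ := h
      by_cases hz : n = 0
      · subst hz
        simp only [beq_self_eq_true, cond_true, beq_iff_eq] at h
        exact ⟨1, one_mem _, by simpa using congrArg reflection (Fin.ext h.symm)⟩
      · simp only [beq_eq_false_iff_ne.2 hz, cond_false, Bool.and_eq_true, Nat.blt, Nat.ble_eq,
          beq_iff_eq, List.contains_iff_mem, List.mem_map] at h
        obtain ⟨⟨hi, hab⟩, e, he, hea⟩ := h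
        obtain ⟨m, hm, hme⟩ := List.getElem_of_mem he
        rw [List.length_take] at hm
        rw [List.getElem_take] at hme
        have hmlen : m < Data.lineTree.length := by omega
        have hb' : Data.lineTree[m].1 < 315 := by
          have h' := (CfsgLib.CosetEnum.Model.allBelow_iff _ _).1 tree_ok m (hmlen.trans_eq tree_length)
          simp only [treeOK, List.getElem?_eq_getElem hmlen, Bool.and_eq_true, Nat.blt,
            Nat.ble_eq] at h'
          exact h'.1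
        obtain ⟨g, hg, hge⟩ := ih m (by omega) hmlen hb'
        have hgm : gen ⟨_, hi⟩ ∈ twoJ2 := twoJ2_eq ▸ Subgroup.subset_closure ⟨_, rfl⟩
        refine ⟨gen ⟨_, hi⟩ * g, mul_mem hgm hg, ?_⟩
        rw [mul_inv_rev, show gen ⟨_, hi⟩ * g * reflection (genLine 0) * (g⁻¹ * (gen ⟨_, hi⟩)⁻¹) =
          gen ⟨_, hi⟩ * (g * reflection (genLine 0) * g⁻¹) * (gen ⟨_, hi⟩)⁻¹ by group, hge, gen_conj]
        refine congrArg reflection (Fin.ext ?_)
        show img16 _ _ = _
        simp only [hme, hea, hab]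
  have hroot : ∀ i : Fin 315, ∃ g ∈ twoJ2, g * reflection (genLine 0) * g⁻¹ = reflection i := by
    intro i
    have h := (CfsgLib.CosetEnum.Model.allBelow_iff _ _).1 tree_cover i i.2
    rw [List.contains_iff_mem, List.mem_map] at h
    obtain ⟨e, he, hej⟩ := h
    obtain ⟨n, hn, hne⟩ := List.getElem_of_mem he
    have hb : Data.lineTree[n].1 < 315 := by rw [hne, hej]; exact i.2
    obtain ⟨g, hg, hge⟩ := key n hn hb
    exact ⟨g, hg, hge.trans (congrArg reflection (Fin.ext (by rw [← hej, ← hne])))⟩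
  obtain ⟨g, hg, hgj⟩ := hroot j
  obtain ⟨h, hh, hhk⟩ := hroot k
  exact ⟨h * g⁻¹, mul_mem hh (inv_mem hg), by rw [← hgj, ← hhk]; group⟩

/-- the 37800 minimal vectors -/
theorem ncard_minimal : {r : Fin 3 → ℍ[ℝ] | r ∈ icoLeech ∧ qip r r = 4}.ncard = 37800 := by
  let F : Fin 315 × {u : Q2 // u ∈ Data.units} → Fin 3 → ℍ[ℝ] :=
    fun p t => p.2.1.val * (rep p.1).val t
  have hset : {r : Fin 3 → ℍ[ℝ] | r ∈ icoLeech ∧ qip r r = 4} = Set.range F := by
    ext r
    constructor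
    · rintro ⟨hr, h4⟩
      obtain ⟨j, w, hw, he⟩ := exists_unit_rep hr h4
      exact ⟨(j, ⟨w, hw⟩), he.symm⟩
    · rintro ⟨⟨j, u, hu⟩, rfl⟩
      obtain ⟨hI, hs, hn⟩ := unit_spec hu
      refine ⟨icoLeech_mul (Q2.inI_val hI) ((Tri.inL_iff _).1 (rep_spec j).1), ?_⟩
      show qip (fun t => u.val * (rep j).val t) (fun t => u.val * (rep j).val t) = 4
      rw [qip_mul, qip_mul_right, (rep_spec j).2.2, show (4 : ℍ[ℝ]) = ((4 : ℝ) : ℍ[ℝ]) from rfl,
        Quaternion.coe_mul_eq_smul, mul_smul_comm, Quaternion.self_mul_star, hn]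
      ext <;> simp
  have hinj : Function.Injective F := by
    rintro ⟨j, u, hu⟩ ⟨k, v, hv⟩ he
    have hjk : j = k := by
      refine reflection_injective (Equiv.ext fun x => Subtype.ext ?_)
      rw [isRefl_reflection, isRefl_reflection, ← qrefl_unit (unit_spec hu).2.1 (rep j).val,
        ← qrefl_unit (unit_spec hv).2.1 (rep k).val]
      exact congrArg (fun r => qrefl r (x : Fin 3 → ℍ[ℝ])) he
    subst hjk
    obtain ⟨t, ht⟩ : ∃ t, (rep j).val t ≠ 0 := by
      by_contra h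
      push Not at h
      have := (rep_spec j).2.2
      rw [show (rep j).val = fun _ => (0 : ℍ[ℝ]) from funext h] at this
      simp [qip] at this
      exact four_ne this.symm
    exact Prod.ext rfl (Subtype.ext (Q2.val_injective (mul_right_cancel₀ ht (congrFun he t))))
  have hnd : Data.units.Nodup := by decide +kernel
  have hlen : Data.units.length = 120 := by decide +kernel
  rw [hset, Set.ncard_range_of_injective hinj, Nat.card_prod, Nat.card_fin,
    Nat.card_congr (List.Nodup.getEquiv _ hnd).symm, Nat.card_fin, hlen]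

theorem ncard_reflections : {f : Equiv.Perm icoLeech | IsIcoReflection f}.ncard = 315 := by
  have : {f : Equiv.Perm icoLeech | IsIcoReflection f} = Set.range reflection := by
    ext f
    constructor
    · intro hf
      obtain ⟨j, hj⟩ := exists_isRefl hf
      exact ⟨j, (hj.unique (isRefl_reflection j)).symm⟩
    · rintro ⟨j, rfl⟩
      exact (isRefl_reflection j).isIco
  rw [this, Set.ncard_range_of_injective reflection_injective, Nat.card_fin]

end CfsgLib.SporJ2.LineAction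

end
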