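import Cfsg.Agent.Eq.Def_Transfer
import Cfsg.Agent.SporJ2.Center
import Cfsg.Agent.SporJ2.ReflCentData
import Cfsg.Agent.PGroup.Extraspecial

/-!
The centraliser of a reflection in `J2` is the stabiliser of its line: an extension of an
extraspecial group of order 32 by the alternating group on five pairs of lines.
-/

set_option autoImplicit false
set_option maxRecDepth 100000

noncomputable section

namespace CfsgLib.SporJ2.ReflCent

open CfsgLib.CosetEnum LineAction
open scoped commutatorElement

/-- the line -/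
def j0 : Fin 315 := genLine 0

/-- a generator of the stabiliser -/
def gperm (k : Fin 8) : Equiv.Perm (Fin 315) := gword lineGen (Data.genWords.getD k [])

/-- its packed form -/
def gcode (k : ℕ) : ℕ := Data.genCodes.getD k 0

theorem gen_check : allBelow (fun k => (Data.genWords.getD k []).all (fun y => y.blt 4) &&
    allBelow (fun i => runR (fun y => img16 (genCode y)) (Data.genWords.getD k []) i ==
      img16 (gcode k) i) 315) 8 = true := by
  decide +kernel

theorem gperm_apply (k : Fin 8) (i : Fin 315) :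
    ((gperm k i : Fin 315) : ℕ) = img16 (gcode k) i := by
  have h := (Model.allBelow_iff _ _).1 gen_check k k.2
  simp only [Bool.and_eq_true, List.all_eq_true, Nat.blt, Nat.ble_eq, Model.allBelow_iff,
    beq_iff_eq] at h
  rw [gperm, gword_runR lineGen _ 4 (fun _ hy => lineGen_apply hy) _ h.1, h.2 i i.2]

theorem gperm_mem (k : Fin 8) : gperm k ∈ lineGroup := by
  have h := (Model.allBelow_iff _ _).1 gen_check k k.2
  simp only [Bool.and_eq_true, List.all_eq_true, Nat.blt, Nat.ble_eq] at h
  refine gword_mem _ _ fun y hy => ?_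
  rw [lineGen, dif_pos (show y < 4 from h.1 y hy)]
  exact Subgroup.subset_closure ⟨_, rfl⟩

/-- images of the generators on the five pairs -/
def pi (k : ℕ) : Equiv.Perm (Fin 5) :=
  [Equiv.swap 0 1 * Equiv.swap 1 2, Equiv.swap 0 1 * Equiv.swap 1 3,
    Equiv.swap 0 1 * Equiv.swap 1 4].getD k 1

/-- the pair of a line, or nothing -/
def lab (x : ℕ) : Option (Fin 5) :=
  let b := Data.blockLab.getD (Data.blockPts.idxOf x) 5
  if h : b < 5 then some ⟨b, h⟩ else none

theorem lab_check : allBelow (fun k => allBelow (fun i =>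
    decide (lab (img16 (gcode k) i) = (lab i).map (pi k))) 315) 8 = true := by
  decide +kernel

theorem lab_surj : ∀ c : Fin 5, ∃ x : Fin 10, lab (Data.blockPts.getD x 0) = some c ∧
    Data.blockPts.getD x 0 < 315 := by
  decide +kernel

theorem j0_fix : allBelow (fun k => img16 (gcode k) 157 == 157) 8 = true ∧
    Data.kerList.length = 32 := by decide +kernel

theorem j0_val : (j0 : ℕ) = 157 := by decide +kernel

/-- the pairs -/
def pairs : Subgroup (Equiv.Perm (Fin 315) × Equiv.Perm (Fin 5)) :=
  Subgroup.closure (Set.range fun k : Fin 8 => (gperm k, pi k))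

theorem pairs_lab {p : Equiv.Perm (Fin 315) × Equiv.Perm (Fin 5)} (hp : p ∈ pairs) :
    ∀ x : Fin 315, lab (p.1 x : Fin 315) = (lab x).map p.2 := by
  induction hp using Subgroup.closure_induction with
  | mem p hp =>
    obtain ⟨k, rfl⟩ := hp
    intro x
    show lab ((gperm k x : Fin 315) : ℕ) = _
    rw [gperm_apply]
    exact of_decide_eq_true ((Model.allBelow_iff _ _).1 ((Model.allBelow_iff _ _).1 lab_check k k.2) x x.2)
  | one => intro x; simp
  | mul p q _ _ hp hq =>
    intro x
    show lab (p.1 (q.1 x) : Fin 315) = _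
    rw [hp, hq, Option.map_map]; rfl
  | inv p _ hp =>
    intro x
    have h := hp (p.1⁻¹ x)
    rw [show p.1 (p.1⁻¹ x) = x by simp] at h
    show lab (p.1⁻¹ x : Fin 315) = (lab x).map ⇑(p.2⁻¹)
    rw [h, Option.map_map]
    cases lab ((p.1⁻¹ x : Fin 315) : ℕ) <;> simp

/-- first projection -/
def permOf : pairs →* Equiv.Perm (Fin 315) := (MonoidHom.fst _ _).comp pairs.subtype

/-- action on the five pairs -/
def pairHom : pairs →* Equiv.Perm (Fin 5) := (MonoidHom.snd _ _).comp pairs.subtype

theorem permOf_injective : Function.Injective permOf := by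
  rw [← MonoidHom.ker_eq_bot_iff, Subgroup.eq_bot_iff_forall]
  intro p hp
  have h1 : p.1.1 = 1 := MonoidHom.mem_ker.1 hp
  refine Subtype.ext (Prod.ext h1 (Equiv.ext fun c => ?_))
  obtain ⟨x, hx, hlt⟩ := lab_surj c
  have h := pairs_lab p.2 ⟨_, hlt⟩
  rw [h1, Equiv.Perm.one_apply, hx, Option.map_some] at h
  exact (Option.some_injective _ h).symm

/-- generators, as pairs -/
def genP (k : Fin 8) : pairs := ⟨(gperm k, pi k), Subgroup.subset_closure ⟨k, rfl⟩⟩

/-- the elements of the image -/
def alt : List (Equiv.Perm (Fin 5)) :=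
  Data.altList.foldl (fun acc e => acc ++ [if acc.isEmpty then 1 else pi e.2 * acc.getD e.1 1]) []

theorem alt_ok : alt.length = 60 ∧ alt.Nodup ∧ (∀ k : Fin 8, Equiv.Perm.sign (pi k) = 1) ∧
    (Data.altList.all fun e => e.2.blt 3) = true := by decide +kernel

theorem alt_mem : ∀ a ∈ alt, a ∈ pairHom.range := by
  suffices h : ∀ (l : List (ℕ × ℕ)) (acc : List (Equiv.Perm (Fin 5))), (l.all fun e => e.2.blt 3) = true →
      (∀ a ∈ acc, a ∈ pairHom.range) →
      ∀ a ∈ l.foldl (fun acc e => acc ++ [if acc.isEmpty then 1 else pi e.2 * acc.getD e.1 1]) acc,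
        a ∈ pairHom.range from
    h _ [] alt_ok.2.2.2 (by simp)
  intro l
  induction l with
  | nil => intro acc _ h; exact h
  | cons e l ih =>
    intro acc hl h
    simp only [List.all_cons, Bool.and_eq_true, Nat.blt, Nat.ble_eq] at hl
    refine ih _ hl.2 fun a ha => ?_
    rcases List.mem_append.1 ha with ha | ha
    · exact h a ha
    · rw [List.mem_singleton] at ha
      subst ha
      split_ifs
      · exact one_mem _
      · refine mul_mem ⟨genP ⟨e.2, by omega⟩, rfl⟩ ?_
        by_cases hlt : e.1 < acc.length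
        · rw [List.getD_eq_getElem _ _ hlt]; exact h _ (List.getElem_mem _)
        · rw [List.getD_eq_default _ _ (by omega)]; exact one_mem _

theorem range_le_alt : pairHom.range ≤ alternatingGroup (Fin 5) := by
  rintro _ ⟨p, rfl⟩
  have : ∀ q ∈ pairs, Equiv.Perm.sign q.2 = 1 := by
    intro q hq
    induction hq using Subgroup.closure_induction with
    | mem q hq => obtain ⟨k, rfl⟩ := hq; exact alt_ok.2.2.1 k
    | one => simp
    | mul a b _ _ iha ihb => show Equiv.Perm.sign (a.2 * b.2) = 1; rw [map_mul, iha, ihb, one_mul]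
    | inv a _ iha => show Equiv.Perm.sign a.2⁻¹ = 1; rw [map_inv, iha, inv_one]
  exact this p.1 p.2

theorem card_range_ge : 60 ≤ Nat.card pairHom.range := by
  refine le_of_eq_of_le (alt_ok.1.symm.trans (Nat.card_fin _).symm) (Nat.card_le_card_of_injective
    (fun i : Fin alt.length => (⟨alt[(i : ℕ)], alt_mem _ (List.getElem_mem _)⟩ : pairHom.range)) ?_)
  exact fun i j h => Fin.ext ((alt_ok.2.1.getElem_inj_iff).1 (congrArg Subtype.val h))

/-- `P` packs the permutation, 16 bits per point -/
def Rep16 (P : ℕ) (a : Equiv.Perm (Fin 315)) : Prop :=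
  ∀ i : Fin 315, ((a i : Fin 315) : ℕ) = img16 P i

/-- one step of the kernel list -/
def kerStep (j : ℕ) : Bool :=
  let e := Data.kerList.getD j (0, 0, 0)
  if j = 0 then allBelow (fun i => img16 e.2.2 i == i) 315
  else
    let Q := (Data.kerList.getD e.1 (0, 0, 0)).2.2
    e.1.blt j && e.2.1.blt 5 &&
      allBelow (fun i => img16 e.2.2 i == img16 (gcode (e.2.1 + 3)) (img16 Q i)) 315

theorem kerStep_ok : allBelow kerStep 32 = true := by decide +kernel

/-- the packed element -/
def kcode (j : ℕ) : ℕ := (Data.kerList.getD j (0, 0, 0)).2.2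

theorem exists_ker (j : ℕ) (hj : j < 32) :
    ∃ p : pairHom.ker, Rep16 (kcode j) (permOf p.1) := by
  induction j using Nat.strong_induction_on with
  | _ j ih =>
    have h := (Model.allBelow_iff _ _).1 kerStep_ok j hj
    unfold kerStep at h
    rcases Nat.eq_zero_or_pos j with rfl | hpos
    · simp only [↓reduceIte, Model.allBelow_iff, beq_iff_eq] at h
      exact ⟨1, fun i => (h i i.2).symm⟩
    · simp only [show j ≠ 0 by omega, ↓reduceIte, Bool.and_eq_true, Nat.blt, Nat.ble_eq,
        Model.allBelow_iff, beq_iff_eq] at h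
      obtain ⟨⟨h1, h2⟩, h3⟩ := h
      obtain ⟨p, hp⟩ := ih _ h1 (by omega)
      let k : Fin 8 := ⟨(Data.kerList.getD j (0, 0, 0)).2.1 + 3, by omega⟩
      have hk : genP k ∈ pairHom.ker := by
        have hone : ∀ k : Fin 8, 3 ≤ (k : ℕ) → pi k = 1 := by decide +kernel
        exact hone k (Nat.le_add_left _ _)
      refine ⟨⟨genP k * p.1, mul_mem hk p.2⟩, fun i => ?_⟩
      show ((gperm k (permOf p.1 i) : Fin 315) : ℕ) = _
      rw [gperm_apply, hp i]
      exact (h3 i i.2).symm

/-- the elements of the kernel -/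
def el (j : Fin 32) : pairHom.ker := (exists_ker j j.2).choose

theorem el_spec (j : Fin 32) : Rep16 (kcode j) (permOf (el j).1) := (exists_ker j j.2).choose_spec

/-- the product of two numbers of kernel elements -/
def tab (j k : Fin 32) : Fin 32 := ⟨Data.kerTable.getD (32 * j + k) 0 % 32, Nat.mod_lt _ (by norm_num)⟩

/-- the number of the central involution -/
def zi : Fin 32 := ⟨Data.kerZ % 32, Nat.mod_lt _ (by norm_num)⟩

theorem key_ok : (∀ j k : Fin 32, img16 (kcode j) 0 = img16 (kcode k) 0 → j = k) ∧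
    ∀ j k : Fin 32, img16 (kcode j) (img16 (kcode k) 0) = img16 (kcode (tab j k)) 0 := by
  decide +kernel

theorem el_zero (j : Fin 32) :
    ((permOf (el j).1 ⟨0, by norm_num⟩ : Fin 315) : ℕ) = img16 (kcode j) 0 :=
  el_spec j _

theorem el_injective : Function.Injective el := fun j k h =>
  key_ok.1 j k (by rw [← el_zero, ← el_zero, h])

theorem card_ker_ge : 32 ≤ Nat.card pairHom.ker :=
  le_of_eq_of_le (Nat.card_fin 32).symm (Nat.card_le_card_of_injective el el_injective)

/-- the stabiliser of the line -/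
def lineStab : Subgroup (Equiv.Perm (Fin 315)) :=
  lineGroup ⊓ MulAction.stabilizer (Equiv.Perm (Fin 315)) j0

theorem range_permOf_le : permOf.range ≤ lineStab := by
  rintro _ ⟨p, rfl⟩
  have hle : pairs ≤ lineStab.comap (MonoidHom.fst _ (Equiv.Perm (Fin 5))) := by
    rw [pairs, Subgroup.closure_le]
    rintro _ ⟨k, rfl⟩
    refine ⟨gperm_mem k, ?_⟩
    show gperm k j0 = j0
    refine Fin.ext ?_
    rw [gperm_apply, j0_val]
    exact beq_iff_eq.1 ((Model.allBelow_iff _ _).1 j0_fix.1 k k.2)
  exact hle p.2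

theorem orbit_lineGroup : MulAction.orbit lineGroup j0 = Set.univ := by
  refine Set.eq_univ_of_forall fun k => ?_
  obtain ⟨g, hg, he⟩ := exists_conj j0 k
  have := lineHom_spec ⟨g, hg⟩ j0
  rw [he] at this
  refine ⟨⟨lineHom ⟨g, hg⟩, range_lineHom ▸ ⟨_, rfl⟩⟩, ?_⟩
  exact (reflection_injective this).symm

theorem card_lineGroup : Nat.card lineGroup = 604800 := by
  obtain ⟨e⟩ := exists_equiv_lineGroup
  rw [← Nat.card_congr e.toEquiv, Hundred.card_grp]

theorem card_lineStab : Nat.card lineStab = 1920 := by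
  have h := card_pointStab_eq lineGroup [] j0
  rw [show pointStab lineGroup ([] : List (Fin 315)) = lineGroup from rfl, orbit_lineGroup,
    Set.ncard_univ, Nat.card_fin, card_lineGroup] at h
  have h' : 315 * Nat.card lineStab = 604800 := h
  omega

theorem cards : Nat.card pairHom.ker = 32 ∧ Nat.card pairHom.range = 60 ∧ Nat.card pairs = 1920 := by
  have hle : Nat.card pairs ≤ 1920 := by
    rw [← card_lineStab]
    exact (Nat.card_le_card_of_injective (fun p : pairs => (⟨permOf p, range_permOf_le ⟨p, rfl⟩⟩ :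
      lineStab)) fun p q h => permOf_injective (congrArg Subtype.val h))
  have hprod : Nat.card pairs = Nat.card pairHom.range * Nat.card pairHom.ker := by
    rw [Subgroup.card_eq_card_quotient_mul_card_subgroup pairHom.ker,
      Nat.card_congr (QuotientGroup.quotientKerEquivRange pairHom).toEquiv]
  have h1 := card_ker_ge
  have h2 := card_range_ge
  have h3 : 60 * 32 ≤ Nat.card pairHom.range * Nat.card pairHom.ker := Nat.mul_le_mul h2 h1
  have hk : Nat.card pairHom.ker ≤ 32 := by nlinarith
  have hr : Nat.card pairHom.range ≤ 60 := by nlinarith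
  exact ⟨le_antisymm hk h1, le_antisymm hr h2, by omega⟩

theorem el_bijective : Function.Bijective el :=
  (Nat.bijective_iff_injective_and_card el).2 ⟨el_injective, by rw [Nat.card_fin, cards.1]⟩

theorem el_mul (j k : Fin 32) : el j * el k = el (tab j k) := by
  obtain ⟨m, hm⟩ := el_bijective.2 (el j * el k)
  rw [← hm]
  refine congrArg el (key_ok.1 m _ ?_)
  rw [← key_ok.2 j k, ← el_zero m, hm]
  show ((permOf (el j).1 (permOf (el k).1 _) : Fin 315) : ℕ) = _
  rw [el_spec j, el_zero k]

theorem tab_ok : tab 0 0 = 0 ∧ zi ≠ 0 ∧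
    (∀ j, (∀ k, tab j k = tab k j) → j = 0 ∨ j = zi) ∧ (∀ k, tab zi k = tab k zi) ∧
    (∀ j k, tab j k = tab k j ∨ tab j k = tab zi (tab k j)) ∧
    (∀ j, tab j j = 0 ∨ tab j j = zi) ∧ ∃ j k, tab j k ≠ tab k j := by
  decide +kernel

theorem el_zero_eq : el 0 = 1 := by
  have h := el_mul 0 0
  rw [tab_ok.1] at h
  exact mul_eq_left.1 h

theorem extraspecial : Cfsg.IsExtraspecial 2 pairHom.ker := by
  obtain ⟨-, hz0, hcen, hzc, hcomm, hsq, j1, k1, hne⟩ := tab_ok
  haveI := Fact.mk Nat.prime_two
  have hp : IsPGroup 2 pairHom.ker := IsPGroup.of_card (n := 5) (by rw [cards.1]; norm_num)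
  have hzmem : el zi ∈ Subgroup.center pairHom.ker := Subgroup.mem_center_iff.2 fun x => by
    obtain ⟨k, rfl⟩ := el_bijective.2 x
    rw [el_mul, el_mul, hzc k]
  have hmem : ∀ j, j = 0 ∨ j = zi → el j ∈ Subgroup.center pairHom.ker := by
    rintro j (rfl | rfl)
    · rw [el_zero_eq]; exact one_mem _
    · exact hzmem
  refine CfsgLib.PGroup.isExtraspecial_of hp ?_ ⟨el j1, el k1, fun h => hne (el_injective ?_)⟩ ?_ ?_
  · rw [Nat.card_eq_two_iff]
    refine ⟨⟨el zi, hzmem⟩, 1, fun h => hz0 (el_injective ((congrArg Subtype.val h).trans el_zero_eq.symm)), ?_⟩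
    rw [Set.eq_univ_iff_forall]
    rintro ⟨x, hx⟩
    obtain ⟨j, rfl⟩ := el_bijective.2 x
    rcases hcen j (fun k => el_injective (by
      rw [← el_mul, ← el_mul]; exact (Subgroup.mem_center_iff.1 hx _).symm)) with rfl | rfl
    · exact Or.inr (Subtype.ext el_zero_eq)
    · exact Or.inl rfl
  · rw [← el_mul, ← el_mul]; exact h
  · intro a b
    obtain ⟨j, rfl⟩ := el_bijective.2 a
    obtain ⟨k, rfl⟩ := el_bijective.2 b
    rw [commutatorElement_def, show el j * el k * (el j)⁻¹ * (el k)⁻¹ = el j * el k * (el k * el j)⁻¹ by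
      group, el_mul, el_mul]
    rcases hcomm j k with h | h
    · rw [h, mul_inv_cancel]; exact one_mem _
    · rw [h, ← el_mul, mul_assoc, mul_inv_cancel, mul_one]; exact hzmem
  · intro a
    obtain ⟨j, rfl⟩ := el_bijective.2 a
    rw [pow_two, el_mul]
    exact hmem _ (hsq j)

theorem extraspecial_congr {A B : Type*} [Group A] [Group B] [Finite A] [Finite B] (e : A ≃* B)
    (h : Cfsg.IsExtraspecial 2 A) : Cfsg.IsExtraspecial 2 B := by
  haveI := Fact.mk Nat.prime_two
  obtain ⟨⟨hp, hfr, hder⟩, hcard⟩ := h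
  have hz : ∀ a : A, a ∈ Subgroup.center A → e a ∈ Subgroup.center B := fun a ha =>
    Subgroup.mem_center_iff.2 fun b => by
      obtain ⟨b, rfl⟩ := e.surjective b
      rw [← map_mul, ← map_mul, Subgroup.mem_center_iff.1 ha b]
  refine CfsgLib.PGroup.isExtraspecial_of (hp.of_equiv e)
    ((Nat.card_congr (Subgroup.centerCongr e).toEquiv).symm.trans hcard) ?_ ?_ ?_
  · by_contra hne
    push Not at hne
    have htop : Subgroup.center A = ⊤ := eq_top_iff.2 fun a _ =>
      Subgroup.mem_center_iff.2 fun b => e.injective (by rw [map_mul, map_mul, hne])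
    have hbot : Subgroup.center A = ⊥ := by
      rw [← hder]
      exact Subgroup.commutator_eq_bot_iff_le_centralizer.2 fun a _ =>
        Subgroup.mem_centralizer_iff.2 fun b _ => e.injective (by rw [map_mul, map_mul, hne])
    rw [hbot, Subgroup.card_bot] at hcard
    exact absurd hcard (by norm_num)
  · intro a b
    obtain ⟨a, rfl⟩ := e.surjective a
    obtain ⟨b, rfl⟩ := e.surjective b
    rw [← map_commutatorElement]
    exact hz _ (hder ▸ Subgroup.commutator_mem_commutator (Subgroup.mem_top a) (Subgroup.mem_top b))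
  · intro a
    obtain ⟨a, rfl⟩ := e.surjective a
    rw [← map_pow]
    refine hz _ (hfr ▸ ?_)
    exact CfsgLib.PGroup.pow_prime_mem_frattini hp a

theorem exists_quotient : Nonempty (pairs ⧸ pairHom.ker ≃* alternatingGroup (Fin 5)) := by
  refine ⟨(QuotientGroup.quotientKerEquivRange pairHom).trans (MulEquiv.subgroupCongr ?_)⟩
  refine SetLike.coe_injective (Set.eq_of_subset_of_ncard_le range_le_alt ?_ (Set.toFinite _))
  rw [← Nat.card_coe_set_eq, ← Nat.card_coe_set_eq]
  show Nat.card (alternatingGroup (Fin 5)) ≤ Nat.card pairHom.range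
  rw [cards.2.1, nat_card_alternatingGroup]; simp [Nat.factorial]

/-- the group of pairs is the stabiliser -/
def pairsEquiv : pairs ≃* lineStab :=
  MulEquiv.ofBijective (MonoidHom.codRestrict permOf lineStab fun p => range_permOf_le ⟨p, rfl⟩)
    ((Nat.bijective_iff_injective_and_card _).2
      ⟨fun _ _ h => permOf_injective (congrArg Subtype.val h), cards.2.2.trans card_lineStab.symm⟩)

/-! ### In `J2` -/

open Quaternion

open Cfsg.Spor in
theorem not_neg (k : Fin 315) :
    ¬ ∀ x : icoLeech, (reflection k x : Fin 3 → ℍ[ℝ]) = -(reflection j0 x : Fin 3 → ℍ[ℝ]) := by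
  intro h
  have hI : testVec.inI = true := by
    have := testVec_ok.1
    simp only [Tri.inL, Bool.and_eq_true] at this; exact this.1
  have hx := h ⟨testVec.val, (Tri.inL_iff _).1 testVec_ok.1⟩
  rw [isRefl_reflection, isRefl_reflection] at hx
  have hv : ∀ i : Fin 315, (Tri.refl (rep i) testVec).val = qrefl (rep i).val testVec.val := fun i =>
    Tri.val_refl (rep_spec i).2.1 hI (List.all_eq_true.1 testVec_ok.2 _ (rep_mem i))
  rw [← hv, ← hv] at hx
  have hsum : Tri.refl (rep k) testVec + Tri.refl (rep j0) testVec = ⟨0, 0, 0⟩ := by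
    refine Tri.val_injective (funext fun t => ?_)
    have := congrFun hx t
    clear hv h hx
    fin_cases t <;> simp_all [Tri.add_def, Q2.val_add, Q2.val_zero]
  have hcheck : ∀ k : Fin 315, Tri.refl (rep k) testVec + Tri.refl (rep j0) testVec ≠ ⟨0, 0, 0⟩ := by
    decide +kernel
  exact hcheck k hsum

open Cfsg.Spor in
/-- the reflection of a line, in `J2` -/
def reflJ (j : Fin 315) : J2 := QuotientGroup.mk ⟨reflection j, twoJ2_eq ▸ reflection_mem j⟩

open Cfsg.Spor in
/-- `J2` acts on the lines -/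
def lineEquiv : J2 ≃* lineGroup :=
  ((QuotientGroup.quotientMulEquivOfEq center_eq_ker).trans
    (QuotientGroup.quotientKerEquivRange lineHom)).trans (MulEquiv.subgroupCongr range_lineHom)

open Cfsg.Spor in
theorem conj_reflJ (g : twoJ2) (j : Fin 315) :
    (g : J2) * reflJ j * (g : J2)⁻¹ = reflJ (lineHom g j) := by
  show ((g * ⟨reflection j, _⟩ * g⁻¹ : twoJ2) : J2) = _
  exact congrArg _ (Subtype.ext (lineHom_spec g j))

open Cfsg.Spor in
theorem reflJ_eq_iff (k : Fin 315) : reflJ k = reflJ j0 ↔ k = j0 := by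
  refine ⟨fun h => ?_, fun h => h ▸ rfl⟩
  have hc := QuotientGroup.eq.1 h.symm
  rw [center_eq_ker] at hc
  rcases sign_of_ker (MonoidHom.mem_ker.1 hc) with hs | hs
  · refine reflection_injective (Equiv.ext fun x => ?_)
    have h1 : (reflection j0)⁻¹ (reflection k x) = x := Subtype.ext (hs x)
    rw [Equiv.Perm.inv_eq_iff_eq] at h1
    exact h1
  · exfalso
    refine not_neg k fun x => ?_
    let y : icoLeech := (reflection j0)⁻¹ (reflection k x)
    have h1 : (y : Fin 3 → ℍ[ℝ]) = -(x : Fin 3 → ℍ[ℝ]) := hs x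
    have h2 : reflection j0 y = reflection k x := by simp [y]
    rw [← h2, isRefl_reflection, isRefl_reflection, h1,
      show (-(x : Fin 3 → ℍ[ℝ])) = (fun t => (-1 : ℍ[ℝ]) * (x : Fin 3 → ℍ[ℝ]) t) by funext t; simp,
      qrefl_mul]
    funext t; simp

open Cfsg.Spor in
theorem exists_equiv_centralizer :
    Nonempty (pairs ≃* Subgroup.centralizer {reflJ j0}) := by
  refine ⟨(pairsEquiv.trans ?_)⟩
  have hmem : ∀ x : J2, x ∈ Subgroup.centralizer {reflJ j0} ↔
      (lineEquiv x : Equiv.Perm (Fin 315)) ∈ lineStab := by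
    intro x
    induction x using QuotientGroup.induction_on with
    | H g =>
      rw [Subgroup.mem_centralizer_singleton_iff, ← mul_inv_eq_iff_eq_mul, conj_reflJ, reflJ_eq_iff]
      refine ⟨fun h => ⟨(lineEquiv (g : J2)).2, h⟩, fun h => h.2⟩
  let f : Subgroup.centralizer {reflJ j0} →* lineStab :=
    MonoidHom.codRestrict ((lineGroup.subtype.comp lineEquiv.toMonoidHom).comp
      (Subgroup.centralizer {reflJ j0}).subtype) lineStab fun x => (hmem x).1 x.2
  refine (MulEquiv.ofBijective f ⟨fun a b h => Subtype.ext (lineEquiv.injective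
    (Subtype.ext (congrArg (fun z : lineStab => (z : Equiv.Perm (Fin 315))) h))), fun y => ?_⟩).symm
  obtain ⟨x, hx⟩ := lineEquiv.surjective ⟨(y : Equiv.Perm (Fin 315)), y.2.1⟩
  exact ⟨⟨x, (hmem x).2 (by rw [hx]; exact y.2)⟩, Subtype.ext (congrArg (fun z : lineGroup => (z : Equiv.Perm (Fin 315))) hx)⟩

open Cfsg.Spor in
/-- The centraliser of any reflection in `J2`. -/
theorem centralizer_structure (f : Equiv.Perm ↥icoLeech) (hf : IsIcoReflection f) (hfm : f ∈ twoJ2) :
    ∃ (Q : Subgroup (Subgroup.centralizer {(QuotientGroup.mk ⟨f, hfm⟩ : J2)})) (_ : Q.Normal),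
      Nat.card Q = 32 ∧ Cfsg.IsExtraspecial 2 Q ∧
        Nonempty (Subgroup.centralizer {(QuotientGroup.mk ⟨f, hfm⟩ : J2)} ⧸ Q ≃*
          alternatingGroup (Fin 5)) := by
  obtain ⟨j, hj⟩ := exists_isRefl hf
  have ht : (QuotientGroup.mk ⟨f, hfm⟩ : J2) = reflJ j :=
    congrArg _ (Subtype.ext (hj.unique (isRefl_reflection j)))
  obtain ⟨g, hg, hge⟩ := exists_conj j0 j
  have hgj : lineHom ⟨g, hg⟩ j0 = j := reflection_injective (by rw [← lineHom_spec, ← hge])
  obtain ⟨e0⟩ := exists_equiv_centralizer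
  let c : MulAut J2 := MulAut.conj ((⟨g, hg⟩ : twoJ2) : J2)
  have hmap : (Subgroup.centralizer {reflJ j0}).map c.toMonoidHom =
      Subgroup.centralizer {(QuotientGroup.mk ⟨f, hfm⟩ : J2)} := by
    have hc : c (reflJ j0) = (QuotientGroup.mk ⟨f, hfm⟩ : J2) := by
      rw [ht, ← hgj, ← conj_reflJ]; rfl
    ext y
    rw [← hc, Subgroup.mem_centralizer_singleton_iff, Subgroup.map_equiv_eq_comap_symm',
      Subgroup.mem_comap, Subgroup.mem_centralizer_singleton_iff]
    constructor
    · intro h; simpa using congrArg c h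
    · intro h
      refine c.injective ?_
      simpa using h
  let e : pairs ≃* Subgroup.centralizer {(QuotientGroup.mk ⟨f, hfm⟩ : J2)} :=
    (e0.trans ((Subgroup.centralizer {reflJ j0}).equivMapOfInjective c.toMonoidHom c.injective)).trans
      (MulEquiv.subgroupCongr hmap)
  let E : pairs →* Subgroup.centralizer {(QuotientGroup.mk ⟨f, hfm⟩ : J2)} := e
  haveI hn : (pairHom.ker.map E).Normal := pairHom.normal_ker.map E e.surjective
  let eQ : pairHom.ker ≃* pairHom.ker.map E := pairHom.ker.equivMapOfInjective E e.injective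
  haveI : Finite (pairHom.ker.map E) := Finite.of_equiv _ eQ.toEquiv
  refine ⟨pairHom.ker.map E, hn, ?_, ?_, ?_⟩
  · rw [← Nat.card_congr eQ.toEquiv, cards.1]
  · exact extraspecial_congr eQ extraspecial
  · obtain ⟨q⟩ := exists_quotient
    exact ⟨(QuotientGroup.congr pairHom.ker _ e rfl).symm.trans q⟩

end CfsgLib.SporJ2.ReflCent

end
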