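import Cfsg.Prelude.Def_KGroupFacts
import Cfsg.Agent.Eq.Def_KGroupFacts
import Cfsg.Agent.SporJ2.ReflCent
import Cfsg.Agent.SporJ2.OutData

/-!
`Out(J2)` has order two: automorphisms permute the 315 reflections (the involutions central in a
Sylow 2-subgroup), the commuting graph has at most twice as many symmetries as `J2` has elements,
and an explicit symmetry normalises `J2` without belonging to it.
-/

set_option autoImplicit false
set_option maxRecDepth 100000

noncomputable section

namespace CfsgLib.SporJ2.OutGraph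

open CfsgLib.CosetEnum LineAction ReflCent Cfsg.Spor
open scoped commutatorElement

/-- `k` is a neighbour of `x` -/
def nb (x k : ℕ) : Bool := (OutData.nbrs.getD x []).contains k

theorem nb_gen_check : allBelow (fun i => allBelow (fun x =>
    (OutData.nbrs.getD x []).all fun k => k.blt 315 &&
      nb (img16 (genCode i) x) (img16 (genCode i) k)) 315) 4 = true := by
  decide +kernel

theorem nb_base_check : allBelow (fun k => (img16 (genCode 0) k == k) ==
    (k == 157 || nb 157 k)) 315 = true := by
  decide +kernel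

theorem nb_lt {x k : ℕ} (hx : x < 315) (h : nb x k = true) : k < 315 := by
  have h0 := (Model.allBelow_iff _ _).1 ((Model.allBelow_iff _ _).1 nb_gen_check 0 (by norm_num)) x hx
  have := List.all_eq_true.1 h0 k (List.contains_iff_mem.1 h)
  simp only [Bool.and_eq_true, Nat.blt, Nat.ble_eq] at this
  exact this.1

theorem nb_lineGroup {a : Equiv.Perm (Fin 315)} (ha : a ∈ lineGroup) :
    ∀ x k : Fin 315, nb (a x : Fin 315) (a k : Fin 315) = nb x k := by
  induction ha using Subgroup.closure_induction with
  | mem a ha =>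
    obtain ⟨i, rfl⟩ := ha
    have key : ∀ x k : Fin 315, nb x k = true →
        nb (genPermFin i x : Fin 315) (genPermFin i k : Fin 315) = true := by
      intro x k h
      have h0 := (Model.allBelow_iff _ _).1 ((Model.allBelow_iff _ _).1 nb_gen_check i i.2) x x.2
      have := List.all_eq_true.1 h0 k (List.contains_iff_mem.1 h)
      simp only [Bool.and_eq_true] at this
      rw [genPermFin_apply, genPermFin_apply]
      exact this.2
    intro x k
    rw [Bool.eq_iff_iff]
    refine ⟨fun h => ?_, key x k⟩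
    have hinv : ∀ y, genPermFin i (genPermFin i y) = y := fun y =>
      Function.Involutive.toPerm_involutive _ y
    simpa [hinv] using key _ _ h
  | one => simp
  | mul a b _ _ iha ihb => intro x k; rw [Equiv.Perm.mul_apply, Equiv.Perm.mul_apply, iha, ihb]
  | inv a _ iha => intro x k; simpa using (iha (a⁻¹ x) (a⁻¹ k)).symm

theorem reflJ_conj_exists (j : Fin 315) : ∃ g : twoJ2, lineHom g j0 = j := by
  obtain ⟨g, hg, he⟩ := exists_conj j0 j
  exact ⟨⟨g, hg⟩, reflection_injective (by rw [← lineHom_spec]; exact he)⟩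

theorem reflJ_injective : Function.Injective reflJ := by
  intro a b h
  obtain ⟨g, hg⟩ := reflJ_conj_exists b
  have hb : reflJ (lineHom g⁻¹ b) = reflJ j0 := by
    rw [← hg, ← Equiv.Perm.mul_apply, ← map_mul, inv_mul_cancel, map_one, Equiv.Perm.one_apply]
  have ha : reflJ (lineHom g⁻¹ a) = reflJ j0 := by
    rw [← conj_reflJ, h, conj_reflJ, hb]
  exact (lineHom g⁻¹).injective (((reflJ_eq_iff _).1 ha).trans ((reflJ_eq_iff _).1 hb).symm)

theorem reflection_j0 : reflection j0 = LineAction.gen 0 :=
  (isRefl_reflection _).unique (isRefl_gen 0)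

theorem lineHom_refl_j0 (h : reflection j0 ∈ twoJ2) : lineHom ⟨reflection j0, h⟩ = genPermFin 0 :=
  Equiv.ext fun j => reflection_injective (by
    rw [← lineHom_spec, show genPermFin 0 j = genImage 0 j from rfl, ← gen_conj]
    show reflection j0 * _ * (reflection j0)⁻¹ = _
    rw [reflection_j0])

theorem commute_base (k : Fin 315) :
    Commute (reflJ j0) (reflJ k) ↔ k = j0 ∨ nb (j0 : Fin 315) k = true := by
  rw [commute_iff_eq, ← mul_inv_eq_iff_eq_mul]
  have hm : reflection j0 ∈ twoJ2 := twoJ2_eq ▸ reflection_mem j0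
  rw [show reflJ j0 * reflJ k * (reflJ j0)⁻¹ = reflJ (lineHom ⟨reflection j0, hm⟩ k) from
    conj_reflJ ⟨reflection j0, hm⟩ k, lineHom_refl_j0, reflJ_injective.eq_iff, Fin.ext_iff,
    genPermFin_apply, Fin.ext_iff, j0_val]
  have h := (Model.allBelow_iff _ _).1 nb_base_check k k.2
  rw [beq_iff_eq, Bool.eq_iff_iff, Bool.or_eq_true, beq_iff_eq, beq_iff_eq] at h
  exact h

theorem commute_map {A B : Type*} [Group A] [Group B] (f : A → B) (hf : Function.Injective f)
    (hm : ∀ x y, f (x * y) = f x * f y) (x y : A) : Commute (f x) (f y) ↔ Commute x y := by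
  rw [commute_iff_eq, commute_iff_eq, ← hm, ← hm, hf.eq_iff]

theorem commute_iff (j k : Fin 315) :
    Commute (reflJ j) (reflJ k) ↔ k = j ∨ nb (j : Fin 315) k = true := by
  obtain ⟨g, rfl⟩ := reflJ_conj_exists j
  obtain ⟨k, rfl⟩ := (lineHom g).surjective k
  have h : Commute (MulAut.conj (g : J2) (reflJ j0)) (MulAut.conj (g : J2) (reflJ k)) ↔
      Commute (reflJ j0) (reflJ k) :=
    commute_map _ (MulAut.conj (g : J2)).injective (map_mul _) _ _
  rw [MulAut.conj_apply, MulAut.conj_apply, conj_reflJ, conj_reflJ] at h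
  rw [h, commute_base, (lineHom g).injective.eq_iff,
    nb_lineGroup (range_lineHom ▸ ⟨g, rfl⟩ : lineHom g ∈ lineGroup)]

theorem nb_irrefl : allBelow (fun x => !(nb x x)) 315 = true := by decide +kernel

/-- symmetries of the commuting graph -/
def graphAut : Subgroup (Equiv.Perm (Fin 315)) where
  carrier := {p | ∀ x k : Fin 315, nb (p x : Fin 315) (p k : Fin 315) = nb x k}
  one_mem' := fun _ _ => rfl
  mul_mem' := fun {p q} hp hq x k => (hp (q x) (q k)).trans (hq x k)
  inv_mem' := fun {p} hp x k => by simpa using (hp (p⁻¹ x) (p⁻¹ k)).symm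

/-! ### The symmetries fix little along the base -/

/-- a base point -/
def bp (i : Fin 10) : Fin 315 := ⟨OutData.basePts.getD i 0 % 315, Nat.mod_lt _ (by norm_num)⟩

/-- the distance from a base point -/
def dist (i : ℕ) (k : ℕ) : ℕ := img (OutData.distCodes.getD i 0) k

theorem dist_check : allBelow (fun i => allBelow (fun k =>
    ((k == OutData.basePts.getD i 0 % 315) == (dist i k == 0)) &&
    ((OutData.nbrs.getD k []).all fun c => (dist i k).ble (dist i c + 1)) &&
    (k == OutData.basePts.getD i 0 % 315 ||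
      (OutData.nbrs.getD k []).any fun c => dist i c + 1 == dist i k)) 315) 10 = true := by
  decide +kernel

theorem dist_spec (i : Fin 10) (k : Fin 315) :
    (dist i k = 0 ↔ k = bp i) ∧ (∀ c, nb k c = true → dist i k ≤ dist i c + 1) ∧
      (k ≠ bp i → ∃ c, nb k c = true ∧ dist i c + 1 = dist i k) := by
  have h := (Model.allBelow_iff _ _).1 ((Model.allBelow_iff _ _).1 dist_check i i.2) k k.2
  simp only [Bool.and_eq_true, Bool.or_eq_true, List.all_eq_true, List.any_eq_true, Nat.ble_eq,
    beq_iff_eq] at h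
  obtain ⟨⟨h1, h2⟩, h3⟩ := h
  refine ⟨?_, fun c hc => h2 c (List.contains_iff_mem.1 hc), fun hne => ?_⟩
  · rw [← beq_iff_eq (a := dist i k), ← h1, beq_iff_eq, Fin.ext_iff]; rfl
  · obtain ⟨c, hc, he⟩ := h3.resolve_left fun e => hne (Fin.ext e)
    exact ⟨c, List.contains_iff_mem.2 hc, he⟩

theorem dist_le_of_fix {p : Equiv.Perm (Fin 315)} (hp : p ∈ graphAut) {i : Fin 10}
    (hfix : p (bp i) = bp i) : ∀ (r : ℕ) (k : Fin 315), dist i k ≤ r → dist i (p k : Fin 315) ≤ r := by
  intro r
  induction r with
  | zero =>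
    intro k hk
    have hb : k = bp i := (dist_spec i k).1.1 (Nat.le_zero.1 hk)
    subst hb
    rw [hfix]; exact hk
  | succ r ih =>
    intro k hk
    rcases Nat.lt_or_ge r (dist i k) with hlt | hge
    · by_cases hb : k = bp i
      · have := (dist_spec i k).1.2 hb; omega
      · obtain ⟨c, hnb, hce⟩ := (dist_spec i k).2.2 hb
        have hclt := nb_lt k.2 hnb
        have hpc := ih ⟨c, hclt⟩ (show dist i c ≤ r by omega)
        have := (dist_spec i (p k)).2.1 _ ((hp k ⟨c, hclt⟩).trans hnb)
        omega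
    · exact (ih k hge).trans (Nat.le_succ r)

theorem dist_eq_of_fix {p : Equiv.Perm (Fin 315)} (hp : p ∈ graphAut) {i : Fin 10}
    (hfix : p (bp i) = bp i) (k : Fin 315) : dist i (p k : Fin 315) = dist i k := by
  refine le_antisymm (dist_le_of_fix hp hfix _ k le_rfl) ?_
  have := dist_le_of_fix (inv_mem hp) (i := i) (by rw [Equiv.Perm.inv_eq_iff_eq, hfix])
    (dist i (p k : Fin 315)) (p k) le_rfl
  simpa using this

/-- points looking like the next base point from the earlier ones -/
def cand (i : ℕ) : List ℕ :=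
  (List.range 315).filter fun k => allBelow (fun l => dist l k == dist l (OutData.basePts.getD i 0 % 315)) i

theorem cand_sizes : allBelow (fun i => (cand i).length == OutData.sizes.getD i 0) 10 = true ∧
    allBelow (fun k => allBelow (fun m => k == m || !(allBelow (fun l => dist l k == dist l m) 10))
      315) 315 = true := by decide +kernel

/-- the first base points, last one first -/
def pre : ℕ → List (Fin 315)
  | 0 => []
  | i + 1 => (if h : i < 10 then bp ⟨i, h⟩ else bp 0) :: pre i

theorem mem_pre {i : ℕ} {l : Fin 10} (h : (l : ℕ) < i) : bp l ∈ pre i := by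
  induction i with
  | zero => omega
  | succ i ih =>
    rcases Nat.lt_succ_iff_lt_or_eq.1 h with h | h
    · exact List.mem_cons_of_mem _ (ih h)
    · subst h
      rw [pre, dif_pos l.2]
      exact List.mem_cons_self

theorem card_step (i : Fin 10) : Nat.card (pointStab graphAut (pre i)) ≤
    OutData.sizes.getD i 0 * Nat.card (pointStab graphAut (pre (i + 1))) := by
  have h := card_pointStab_eq graphAut (pre i) (bp i)
  rw [show pre (i + 1) = bp i :: pre i from by rw [pre, dif_pos i.2]]
  rw [← h]
  refine Nat.mul_le_mul_right _ ?_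
  have hs := (Model.allBelow_iff _ _).1 cand_sizes.1 i i.2
  rw [beq_iff_eq] at hs
  rw [← hs]
  refine le_trans ?_ (List.toFinset_card_le _)
  rw [← Set.ncard_coe_finset, ← Set.ncard_image_of_injective _ Fin.val_injective]
  refine Set.ncard_le_ncard ?_ (Set.toFinite _)
  rintro _ ⟨_, ⟨⟨p, hp⟩, rfl⟩, rfl⟩
  obtain ⟨hpg, hfix⟩ := mem_pointStab.1 hp
  simp only [List.coe_toFinset, Set.mem_ofPred_eq, cand, List.mem_filter, List.mem_range]
  refine ⟨Fin.is_lt _, (Model.allBelow_iff _ _).2 fun l hl => beq_iff_eq.2 ?_⟩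
  exact dist_eq_of_fix hpg (i := ⟨l, hl.trans i.2⟩) (hfix _ (mem_pre hl)) (bp i)

theorem card_graphAut : Nat.card graphAut ≤ 1209600 := by
  have hlast : Nat.card (pointStab graphAut (pre 10)) = 1 := by
    rw [Nat.card_eq_one_iff_unique]
    refine ⟨⟨fun p q => ?_⟩, ⟨1⟩⟩
    have key : ∀ r ∈ pointStab graphAut (pre 10), r = 1 := fun r hr => Equiv.ext fun k => by
      have h := (Model.allBelow_iff _ _).1 ((Model.allBelow_iff _ _).1 cand_sizes.2 _ (r k).2) k k.2
      simp only [Bool.or_eq_true, beq_iff_eq, Bool.not_eq_true', ← Bool.not_eq_true,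
        Model.allBelow_iff] at h
      refine Fin.ext (h.resolve_right fun hn => hn fun l hl => ?_)
      obtain ⟨hrg, hfix⟩ := mem_pointStab.1 hr
      exact dist_eq_of_fix hrg (i := ⟨l, hl⟩) (hfix _ (mem_pre hl)) k
    exact Subtype.ext ((key _ p.2).trans (key _ q.2).symm)
  have h0 := card_step 0; have h1 := card_step 1; have h2 := card_step 2; have h3 := card_step 3
  have h4 := card_step 4; have h5 := card_step 5; have h6 := card_step 6; have h7 := card_step 7
  have h8 := card_step 8; have h9 := card_step 9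
  norm_num [OutData.sizes] at h0 h1 h2 h3 h4 h5 h6 h7 h8 h9
  rw [hlast] at h9
  change Nat.card graphAut ≤ _ at h0
  show Nat.card graphAut ≤ 1209600
  omega

/-! ### Reflections are the involutions central in a Sylow 2-subgroup -/

theorem range_eq_alt : pairHom.range = alternatingGroup (Fin 5) := by
  refine SetLike.coe_injective (Set.eq_of_subset_of_ncard_le range_le_alt ?_ (Set.toFinite _))
  rw [← Nat.card_coe_set_eq, ← Nat.card_coe_set_eq]
  show Nat.card (alternatingGroup (Fin 5)) ≤ Nat.card pairHom.range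
  rw [cards.2.1, nat_card_alternatingGroup]; simp [Nat.factorial]

theorem moving_check : ∃ j : Fin 32,
    img16 (gcode 0) (img16 (kcode j) 0) ≠ img16 (kcode j) (img16 (gcode 0) 0) ∧
    img16 (gcode 0) (img16 (kcode j) 0) ≠ img16 (kcode (tab zi j)) (img16 (gcode 0) 0) := by
  decide +kernel

/-- the central involution of the kernel, as a pair -/
def zP : pairs := (el zi).1

theorem eq_of_centralizes {p : pairs} (hp : ∀ q : pairHom.ker, p * q.1 = q.1 * p) :
    p = 1 ∨ p = zP := by
  let K : Subgroup pairs := pairHom.ker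
  let C : Subgroup pairs := Subgroup.centralizer (K : Set pairs)
  have hpC : p ∈ C := Subgroup.mem_centralizer_iff.2 fun q hq => (hp ⟨q, hq⟩).symm
  let N : Subgroup pairHom.range := C.map pairHom.rangeRestrict
  have hK : K.Normal := pairHom.normal_ker
  have hN : N.Normal := by
    have hC : C.Normal := ⟨fun c hc g => Subgroup.mem_centralizer_iff.2 fun q hq => by
      have h' := Subgroup.mem_centralizer_iff.1 hc (g⁻¹ * q * g) (by
        simpa using hK.conj_mem q hq g⁻¹)
      calc q * (g * c * g⁻¹) = g * (g⁻¹ * q * g * c) * g⁻¹ := by group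
        _ = g * (c * (g⁻¹ * q * g)) * g⁻¹ := by rw [h']
        _ = g * c * g⁻¹ * q := by group⟩
    exact hC.map _ pairHom.rangeRestrict_surjective
  have : IsSimpleGroup pairHom.range := by
    haveI : IsSimpleGroup (alternatingGroup (Fin 5)) := alternatingGroup.isSimpleGroup_five
    exact (MulEquiv.subgroupCongr range_eq_alt).isSimpleGroup
  have hker : p ∈ pairHom.ker := by
    rcases hN.eq_bot_or_eq_top with hb | ht
    · have := hb.le ⟨p, hpC, rfl⟩
      rw [Subgroup.mem_bot] at this
      exact MonoidHom.mem_ker.2 (congrArg Subtype.val this)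
    · exfalso
      obtain ⟨j, hj1, hj2⟩ := moving_check
      obtain ⟨c, hc, hce⟩ := ht.ge (Subgroup.mem_top (pairHom.rangeRestrict (genP 0)))
      have hq : c⁻¹ * genP 0 ∈ pairHom.ker := by
        rw [MonoidHom.mem_ker, map_mul, map_inv]
        exact inv_mul_eq_one.2 (congrArg Subtype.val hce)
      obtain ⟨k, hk⟩ := el_bijective.2 ⟨_, hq⟩
      have hce' : genP 0 = c * (el k).1 := by rw [hk]; simp
      have hcomm : ∀ x : pairs, x ∈ pairHom.ker → x * c = c * x := fun x hx =>
        Subgroup.mem_centralizer_iff.1 hc x hx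
      rcases tab_ok.2.2.2.2.1 k j with h | h
      · have e : genP 0 * (el j).1 = (el j).1 * genP 0 := by
          rw [hce', mul_assoc, ← Subgroup.coe_mul, el_mul, h, ← el_mul, Subgroup.coe_mul,
            ← mul_assoc, ← hcomm _ (el j).2, mul_assoc]
        have := congrArg (fun z : pairs => ((permOf z ⟨0, by norm_num⟩ : Fin 315) : ℕ)) e
        simp only [map_mul, Equiv.Perm.mul_apply] at this
        rw [show permOf (genP 0) = gperm 0 from rfl, gperm_apply, el_spec, el_spec, gperm_apply] at this
        exact hj1 this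
      · have e : genP 0 * (el j).1 = (el (tab zi j)).1 * genP 0 := by
          rw [hce', mul_assoc, ← Subgroup.coe_mul, el_mul, h, ← el_mul, ← el_mul, Subgroup.coe_mul,
            Subgroup.coe_mul, ← mul_assoc, ← mul_assoc, ← hcomm _ (el zi).2, ← el_mul, Subgroup.coe_mul,
            mul_assoc (el zi).1 c, ← hcomm _ (el j).2, ← mul_assoc, ← mul_assoc]
        have := congrArg (fun z : pairs => ((permOf z ⟨0, by norm_num⟩ : Fin 315) : ℕ)) e
        simp only [map_mul, Equiv.Perm.mul_apply] at this
        rw [show permOf (genP 0) = gperm 0 from rfl, gperm_apply, el_spec, el_spec, gperm_apply] at this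
        exact hj2 this
  obtain ⟨m, hm⟩ := el_bijective.2 ⟨p, hker⟩
  have hcen : ∀ k, tab m k = tab k m := fun k => el_injective (by
    rw [← el_mul, ← el_mul, hm]
    exact Subtype.ext (hp (el k)))
  rcases tab_ok.2.2.1 m hcen with rfl | rfl
  · exact Or.inl (by rw [el_zero_eq] at hm; exact (congrArg Subtype.val hm).symm)
  · exact Or.inr (congrArg Subtype.val hm).symm

theorem reflJ_sq (j : Fin 315) : reflJ j * reflJ j = 1 ∧ reflJ j ≠ 1 := by
  obtain ⟨g, rfl⟩ := reflJ_conj_exists j
  have h2 : reflJ j0 * reflJ j0 = 1 := by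
    rw [reflJ, ← QuotientGroup.mk_mul]
    refine (congrArg _ (Subtype.ext ?_)).trans (QuotientGroup.mk_one _)
    show reflection j0 * reflection j0 = 1
    rw [reflection_j0]; exact gen_sq 0
  have h1 : reflJ j0 ≠ 1 := by
    intro h
    have hall : ∀ k : Fin 315, Commute (reflJ j0) (reflJ k) := fun k => by rw [h]; exact Commute.one_left _
    have hne : ∃ k : Fin 315, ¬ ((k : ℕ) = 157 ∨ nb 157 k = true) := by decide +kernel
    obtain ⟨k, hk⟩ := hne
    refine hk ?_
    have := (commute_base k).1 (hall k)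
    rwa [Fin.ext_iff, j0_val] at this
  rw [← conj_reflJ]
  constructor
  · calc _ = (g : J2) * (reflJ j0 * reflJ j0) * (g : J2)⁻¹ := by group
      _ = 1 := by rw [h2, mul_one, mul_inv_cancel]
  · exact fun h => h1 (conj_eq_one_iff.1 h)

theorem card_centralizer (j : Fin 315) : Nat.card (Subgroup.centralizer {reflJ j}) = 1920 := by
  obtain ⟨g, rfl⟩ := reflJ_conj_exists j
  obtain ⟨e⟩ := exists_equiv_centralizer
  rw [← cards.2.2, Nat.card_congr e.toEquiv, ← conj_reflJ]
  refine Nat.card_congr (Equiv.subtypeEquiv (MulAut.conj ((g : J2))⁻¹).toEquiv fun x => ?_)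
  rw [Subgroup.mem_centralizer_singleton_iff, Subgroup.mem_centralizer_singleton_iff]
  constructor
  · intro h
    calc MulAut.conj ((g : J2))⁻¹ x * reflJ j0
        = (g : J2)⁻¹ * (x * ((g : J2) * reflJ j0 * (g : J2)⁻¹)) * (g : J2) := by
          simp [MulAut.conj_apply]; group
      _ = (g : J2)⁻¹ * (((g : J2) * reflJ j0 * (g : J2)⁻¹) * x) * (g : J2) := by rw [h]
      _ = _ := by simp [MulAut.conj_apply]; group
  · intro h
    calc x * ((g : J2) * reflJ j0 * (g : J2)⁻¹)
        = (g : J2) * (MulAut.conj ((g : J2))⁻¹ x * reflJ j0) * (g : J2)⁻¹ := by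
          simp [MulAut.conj_apply]; group
      _ = (g : J2) * (reflJ j0 * MulAut.conj ((g : J2))⁻¹ x) * (g : J2)⁻¹ :=
          congrArg (fun z => (g : J2) * z * (g : J2)⁻¹) h
      _ = _ := by simp [MulAut.conj_apply]; group

theorem isReflJ_of {x : J2} (hx : x * x = 1) (hx1 : x ≠ 1)
    (h128 : 128 ∣ Nat.card (Subgroup.centralizer {x})) : ∃ j, x = reflJ j := by
  haveI := Fact.mk Nat.prime_two
  haveI : Finite J2 := Nat.finite_of_card_ne_zero (by rw [card_J2]; norm_num)
  have hfac : (Nat.card J2).factorization 2 = 7 := by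
    rw [card_J2, show 604800 = 2 ^ 7 * 4725 by norm_num, Nat.factorization_mul (by norm_num) (by norm_num),
      Finsupp.add_apply, Nat.Prime.factorization_pow Nat.prime_two, Finsupp.single_eq_same,
      Nat.factorization_eq_zero_of_not_dvd (by norm_num)]
  have big : ∀ y : J2, 128 ∣ Nat.card (Subgroup.centralizer {y}) →
      ∃ S : Sylow 2 J2, ∀ s ∈ (S : Subgroup J2), s * y = y * s := by
    intro y hy
    obtain ⟨H, hH⟩ := Sylow.exists_subgroup_card_pow_prime 2 (show 2 ^ 7 ∣ _ from hy)
    let H' : Subgroup J2 := H.map (Subgroup.centralizer {y}).subtype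
    have hH' : Nat.card H' = 2 ^ (Nat.card J2).factorization 2 := by
      rw [hfac, ← hH]
      exact (Nat.card_congr (Subgroup.equivMapOfInjective _ _ Subtype.val_injective).toEquiv).symm
    refine ⟨Sylow.ofCard H' hH', fun s hs => ?_⟩
    obtain ⟨s, -, rfl⟩ := (Sylow.coe_ofCard H' hH').le hs
    exact Subgroup.mem_centralizer_singleton_iff.1 s.2
  obtain ⟨S, hS⟩ := big x h128
  obtain ⟨T, hT⟩ := big (reflJ j0) (by rw [card_centralizer]; norm_num)
  obtain ⟨g, hg⟩ := MulAction.exists_smul_eq J2 S T
  let y : J2 := g * x * g⁻¹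
  have hyS : ∀ s ∈ (T : Subgroup J2), s * y = y * s := by
    intro s hs
    rw [← hg, Sylow.smul_def, Sylow.pointwise_smul_def] at hs
    obtain ⟨s, hs', rfl⟩ := hs
    show g * s * g⁻¹ * (g * x * g⁻¹) = g * x * g⁻¹ * (g * s * g⁻¹)
    calc _ = g * (s * x) * g⁻¹ := by group
      _ = g * (x * s) * g⁻¹ := by rw [hS s hs']
      _ = _ := by group
  have hy2 : y * y = 1 := by
    calc y * y = g * (x * x) * g⁻¹ := by simp only [y]; group
      _ = 1 := by rw [hx, mul_one, mul_inv_cancel]
  have hyT : y ∈ (T : Subgroup J2) := by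
    have hp : IsPGroup 2 (Subgroup.zpowers y) := by
      rintro ⟨z, hz⟩
      obtain ⟨m, rfl⟩ := Subgroup.mem_zpowers_iff.1 hz
      refine ⟨1, Subtype.ext ?_⟩
      show (y ^ m) ^ (2 ^ 1) = 1
      rw [pow_one, pow_two, ← (Commute.refl y).mul_zpow, hy2, one_zpow]
    have hle : Subgroup.zpowers y ≤ Subgroup.normalizer ((T : Subgroup J2) : Set J2) := by
      rw [Subgroup.zpowers_le, Subgroup.mem_normalizer_iff]
      intro s
      constructor
      · intro hs; rw [← hyS s hs, mul_inv_cancel_right]; exact hs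
      · intro hs
        have := hyS _ hs
        have e : y * s = y * (y * s * y⁻¹) := by rw [← this]; group
        rw [mul_left_cancel e]; exact hs
    have hsup := IsPGroup.to_sup_of_normal_right' hp T.isPGroup' hle
    rw [← T.is_maximal' hsup le_sup_right]
    exact le_sup_left (a := Subgroup.zpowers y) (Subgroup.mem_zpowers y)
  obtain ⟨e⟩ := exists_equiv_centralizer
  have hTC : (T : Subgroup J2) ≤ Subgroup.centralizer {reflJ j0} := fun s hs =>
    Subgroup.mem_centralizer_singleton_iff.2 (hT s hs)
  let P : Subgroup pairs := ((T : Subgroup J2).subgroupOf (Subgroup.centralizer {reflJ j0})).comap e.toMonoidHom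
  have hPcard : Nat.card P = 128 := by
    rw [Nat.card_congr ((Subgroup.equivMapOfInjective P e.toMonoidHom e.injective)).toEquiv,
      Subgroup.map_comap_eq_self_of_surjective e.surjective,
      Nat.card_congr (Subgroup.subgroupOfEquivOfLe hTC).toEquiv, T.card_eq_multiplicity, hfac]
    norm_num
  have hkerP : pairHom.ker ≤ P := by
    haveI : Finite pairs := Nat.finite_of_card_ne_zero (by rw [cards.2.2]; norm_num)
    have hf : (Nat.card pairs).factorization 2 = 7 := by
      rw [cards.2.2, show 1920 = 2 ^ 7 * 15 by norm_num, Nat.factorization_mul (by norm_num) (by norm_num),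
        Finsupp.add_apply, Nat.Prime.factorization_pow Nat.prime_two, Finsupp.single_eq_same,
        Nat.factorization_eq_zero_of_not_dvd (by norm_num)]
    let S' : Sylow 2 pairs := Sylow.ofCard P (by rw [hPcard, hf]; norm_num)
    have hk2 : IsPGroup 2 pairHom.ker := IsPGroup.of_card (n := 5) (by rw [cards.1]; norm_num)
    haveI : pairHom.ker.Normal := pairHom.normal_ker
    have hsup : IsPGroup 2 (pairHom.ker ⊔ (S' : Subgroup pairs) : Subgroup pairs) :=
      hk2.to_sup_of_normal_left S'.isPGroup'
    exact (le_sup_left.trans (S'.is_maximal' hsup le_sup_right).le).trans (Sylow.coe_ofCard P _).le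
  have hcent : ∀ z : Subgroup.centralizer {reflJ j0}, (∀ s ∈ (T : Subgroup J2), s * z.1 = z.1 * s) →
      e.symm z = 1 ∨ e.symm z = zP := by
    intro z hz
    refine eq_of_centralizes fun q => e.injective (Subtype.ext ?_)
    rw [map_mul, map_mul, e.apply_symm_apply]
    exact (hz _ (hkerP q.2)).symm
  let yC : Subgroup.centralizer {reflJ j0} := ⟨y, hTC hyT⟩
  let tC : Subgroup.centralizer {reflJ j0} :=
    ⟨reflJ j0, Subgroup.mem_centralizer_singleton_iff.2 rfl⟩
  have hy1 : y ≠ 1 := fun h => hx1 (conj_eq_one_iff.1 h)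
  have h1 : e.symm yC = zP := (hcent yC hyS).resolve_left fun h =>
    hy1 (congrArg Subtype.val (e.symm.map_eq_one_iff.1 h))
  have h2 : e.symm tC = zP := (hcent tC hT).resolve_left fun h =>
    (reflJ_sq j0).2 (congrArg Subtype.val (e.symm.map_eq_one_iff.1 h))
  have hyt : g * x * g⁻¹ = reflJ j0 := congrArg Subtype.val (e.symm.injective (h1.trans h2.symm))
  obtain ⟨g', hg'⟩ := QuotientGroup.mk_surjective g
  refine ⟨lineHom g'⁻¹ j0, ?_⟩
  rw [← conj_reflJ, ← hyt, QuotientGroup.mk_inv, hg']
  group

/-! ### Automorphisms -/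

theorem exists_aut_perm (a : MulAut J2) (j : Fin 315) : ∃ k, a (reflJ j) = reflJ k := by
  refine isReflJ_of (by rw [← map_mul, (reflJ_sq j).1, map_one])
    (fun h => (reflJ_sq j).2 ((map_eq_one_iff a a.injective).1 h)) ?_
  have : Nat.card (Subgroup.centralizer {a (reflJ j)}) = 1920 := by
    rw [← card_centralizer j]
    refine Nat.card_congr (Equiv.subtypeEquiv a.symm.toEquiv fun x => ?_)
    rw [Subgroup.mem_centralizer_singleton_iff, Subgroup.mem_centralizer_singleton_iff,
      ← a.injective.eq_iff (a := (a.symm.toEquiv x) * reflJ j), map_mul, map_mul]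
    simp
  rw [this]; norm_num

theorem closure_reflJ : Subgroup.closure (Set.range reflJ) = ⊤ := by
  rw [eq_top_iff]
  intro x _
  obtain ⟨⟨g, hg⟩, rfl⟩ := QuotientGroup.mk_surjective x
  have key : ∀ g ∈ genGroup, ∃ h : g ∈ twoJ2,
      (QuotientGroup.mk ⟨g, h⟩ : J2) ∈ Subgroup.closure (Set.range reflJ) := by
    intro g hg
    induction hg using Subgroup.closure_induction with
    | mem g hg =>
      obtain ⟨i, rfl⟩ := hg
      refine ⟨twoJ2_eq ▸ Subgroup.subset_closure ⟨i, rfl⟩,
        Subgroup.subset_closure ⟨genLine i, congrArg _ (Subtype.ext ?_)⟩⟩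
      exact (isRefl_reflection _).unique (isRefl_gen i)
    | one => exact ⟨one_mem _, one_mem _⟩
    | mul a b _ _ iha ihb =>
      obtain ⟨ha, ha'⟩ := iha; obtain ⟨hb, hb'⟩ := ihb
      exact ⟨mul_mem ha hb, mul_mem ha' hb'⟩
    | inv a _ iha =>
      obtain ⟨ha, ha'⟩ := iha
      exact ⟨inv_mem ha, inv_mem ha'⟩
  exact (key g (twoJ2_eq ▸ hg)).2

/-- the permutation of the reflections induced by an automorphism -/
def autFun (a : MulAut J2) (j : Fin 315) : Fin 315 := (exists_aut_perm a j).choose

theorem autFun_spec (a : MulAut J2) (j : Fin 315) : a (reflJ j) = reflJ (autFun a j) :=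
  (exists_aut_perm a j).choose_spec

theorem autFun_injective (a : MulAut J2) : Function.Injective (autFun a) := fun i j h =>
  reflJ_injective (a.injective (by rw [autFun_spec, autFun_spec, h]))

/-- the same, as a permutation -/
def autPerm (a : MulAut J2) : Equiv.Perm (Fin 315) :=
  Equiv.ofBijective (autFun a) (Finite.injective_iff_bijective.1 (autFun_injective a))

theorem autPerm_mem (a : MulAut J2) : autPerm a ∈ graphAut := by
  intro x k
  rw [Bool.eq_iff_iff]
  show nb (autFun a x : Fin 315) (autFun a k : Fin 315) = true ↔ _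
  have hirr : ∀ x : Fin 315, nb x x ≠ true := fun x => by
    simpa using (Model.allBelow_iff _ _).1 nb_irrefl x x.2
  by_cases hxk : k = x
  · subst hxk; simp [hirr]
  · have h : Commute (reflJ (autFun a x)) (reflJ (autFun a k)) ↔ Commute (reflJ x) (reflJ k) := by
      rw [← autFun_spec, ← autFun_spec]
      exact commute_map _ a.injective (map_mul a) _ _
    rw [commute_iff, commute_iff] at h
    simpa [hxk, (autFun_injective a).eq_iff] using h

theorem finite_J2 : Finite J2 := Nat.finite_of_card_ne_zero (by rw [card_J2]; norm_num)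

theorem card_aut_le : Nat.card (MulAut J2) ≤ 1209600 := by
  refine le_trans (Nat.card_le_card_of_injective (fun a => (⟨autPerm a, autPerm_mem a⟩ : graphAut)) ?_)
    card_graphAut
  intro a b h
  have h' : autFun a = autFun b := congrArg (fun p : graphAut => (p.1 : Fin 315 → Fin 315)) h
  refine MulEquiv.toMonoidHom_injective (MonoidHom.eq_of_eqOn_dense closure_reflJ ?_)
  rintro _ ⟨j, rfl⟩
  show a (reflJ j) = b (reflJ j)
  rw [autFun_spec, autFun_spec, h']

/-! ### An outer automorphism -/

theorem out_check : allBelow (fun k => (img16 OutData.outCode k).blt 315) 315 = true ∧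
    allBelow (fun k => allBelow (fun m => k == m ||
      !(img16 OutData.outCode k == img16 OutData.outCode m)) 315) 315 = true ∧
    img16 OutData.outCode 157 = 157 ∧
    allBelow (fun i => (OutData.outWords.getD i []).all (fun y => y.blt 4) &&
      allBelow (fun k => runR (fun y => img16 (genCode y)) (OutData.outWords.getD i [])
        (img16 OutData.outCode k) == img16 OutData.outCode (img16 (genCode i) k)) 315) 4 = true ∧
    allBelow (fun k => k == 157 || !(allBelow (fun g => img16 (gcode g) k == k) 8)) 315 = true := by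
  decide +kernel

theorem out_odd : ∀ σ : Equiv.Perm (Fin 5),
    (∀ x : Fin 10, lab (img16 OutData.outCode (Data.blockPts.getD x 0)) =
      (lab (Data.blockPts.getD x 0)).map σ) → Equiv.Perm.sign σ = -1 := by
  decide +kernel

/-- the outer symmetry -/
def outPerm : Equiv.Perm (Fin 315) :=
  Equiv.ofBijective (fun k : Fin 315 => (⟨img16 OutData.outCode k % 315, Nat.mod_lt _ (by norm_num)⟩ : Fin 315))
    (Finite.injective_iff_bijective.1 fun a b h => by
      have ha := (Model.allBelow_iff _ _).1 out_check.1 a a.2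
      have hb := (Model.allBelow_iff _ _).1 out_check.1 b b.2
      simp only [Nat.blt, Nat.ble_eq] at ha hb
      have h' : img16 OutData.outCode a % 315 = img16 OutData.outCode b % 315 := congrArg Fin.val h
      rw [Nat.mod_eq_of_lt (by omega), Nat.mod_eq_of_lt (by omega)] at h'
      have := (Model.allBelow_iff _ _).1 ((Model.allBelow_iff _ _).1 out_check.2.1 a a.2) b b.2
      simp only [Bool.or_eq_true, beq_iff_eq, Bool.not_eq_true', beq_eq_false_iff_ne] at this
      exact Fin.ext (this.resolve_right (not_not.2 h')))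

theorem outPerm_apply (k : Fin 315) : ((outPerm k : Fin 315) : ℕ) = img16 OutData.outCode k := by
  have := (Model.allBelow_iff _ _).1 out_check.1 k k.2
  simp only [Nat.blt, Nat.ble_eq] at this
  exact Nat.mod_eq_of_lt (by omega)

theorem outPerm_conj_mem {a : Equiv.Perm (Fin 315)} (ha : a ∈ lineGroup) :
    outPerm * a * outPerm⁻¹ ∈ lineGroup := by
  induction ha using Subgroup.closure_induction with
  | mem a ha =>
    obtain ⟨i, rfl⟩ := ha
    have h := (Model.allBelow_iff _ _).1 out_check.2.2.2.1 i i.2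
    simp only [Bool.and_eq_true, List.all_eq_true, Nat.blt, Nat.ble_eq, Model.allBelow_iff,
      beq_iff_eq] at h
    have e : gword lineGen (OutData.outWords.getD i []) * outPerm = outPerm * genPermFin i :=
      Equiv.ext fun k => Fin.ext (by
        rw [Equiv.Perm.mul_apply, Equiv.Perm.mul_apply,
          gword_runR lineGen _ 4 (fun _ hy => lineGen_apply hy) _ h.1, outPerm_apply, outPerm_apply,
          genPermFin_apply]
        exact h.2 k k.2)
    rw [← e, mul_inv_cancel_right]
    refine gword_mem _ _ fun y hy => ?_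
    rw [lineGen, dif_pos (show y < 4 from h.1 y hy)]
    exact Subgroup.subset_closure ⟨_, rfl⟩
  | one => simp [one_mem]
  | mul a b _ _ iha ihb =>
    rw [show outPerm * (a * b) * outPerm⁻¹ = outPerm * a * outPerm⁻¹ * (outPerm * b * outPerm⁻¹) by group]
    exact mul_mem iha ihb
  | inv a _ iha =>
    rw [show outPerm * a⁻¹ * outPerm⁻¹ = (outPerm * a * outPerm⁻¹)⁻¹ by group]
    exact inv_mem iha

theorem exists_not_inner : ∃ b : MulAut J2, b ∉ Cfsg.Inn J2 := by
  let f : lineGroup →* lineGroup :=
    MonoidHom.codRestrict ((MulAut.conj outPerm).toMonoidHom.comp lineGroup.subtype) lineGroup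
      fun a => outPerm_conj_mem a.2
  haveI : Finite lineGroup := Subtype.finite
  have hf : Function.Bijective f := Finite.injective_iff_bijective.1 fun a b h =>
    Subtype.ext ((MulAut.conj outPerm).injective (congrArg Subtype.val h))
  let b : MulAut J2 := (lineEquiv.trans (MulEquiv.ofBijective f hf)).trans lineEquiv.symm
  refine ⟨b, fun hb => ?_⟩
  obtain ⟨x, hx⟩ := hb
  have key : ∀ a ∈ lineGroup, outPerm * a * outPerm⁻¹ =
      (lineEquiv x : Equiv.Perm (Fin 315)) * a * (lineEquiv x : Equiv.Perm (Fin 315))⁻¹ := by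
    intro a ha
    have h1 : lineEquiv (b (lineEquiv.symm ⟨a, ha⟩)) = f ⟨a, ha⟩ := by simp [b]
    rw [← hx] at h1
    have h2 : (MulAut.conj x : MulAut J2) (lineEquiv.symm ⟨a, ha⟩) =
        x * lineEquiv.symm ⟨a, ha⟩ * x⁻¹ := rfl
    rw [h2, map_mul, map_mul, map_inv, lineEquiv.apply_symm_apply] at h1
    exact (congrArg Subtype.val h1).symm
  set u : Equiv.Perm (Fin 315) := (lineEquiv x : Equiv.Perm (Fin 315)) with hu
  let c : Equiv.Perm (Fin 315) := u⁻¹ * outPerm
  have hc : ∀ a ∈ lineGroup, c * a = a * c := fun a ha => by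
    have := key a ha
    calc c * a = u⁻¹ * (outPerm * a * outPerm⁻¹) * outPerm := by simp only [c]; group
      _ = u⁻¹ * (u * a * u⁻¹) * outPerm := by rw [this]
      _ = a * c := by simp only [c]; group
  have hc0 : c j0 = j0 := by
    have h := (Model.allBelow_iff _ _).1 out_check.2.2.2.2 (c j0) (c j0).2
    simp only [Bool.or_eq_true, beq_iff_eq, Bool.not_eq_true', ← Bool.not_eq_true,
      Model.allBelow_iff] at h
    refine Fin.ext ((h.resolve_right fun hn => hn fun g hg => ?_).trans j0_val.symm)
    have e : gperm ⟨g, hg⟩ (c j0) = c j0 := by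
      rw [← Equiv.Perm.mul_apply, ← hc _ (gperm_mem _), Equiv.Perm.mul_apply]
      exact congrArg c ((range_permOf_le ⟨genP ⟨g, hg⟩, rfl⟩).2)
    have := congrArg Fin.val e
    rwa [gperm_apply] at this
  have hc1 : c = 1 := Equiv.ext fun k => by
    obtain ⟨⟨a, ha⟩, rfl⟩ : k ∈ MulAction.orbit lineGroup j0 := by rw [orbit_lineGroup]; trivial
    show c (a j0) = a j0
    rw [← Equiv.Perm.mul_apply, hc a ha, Equiv.Perm.mul_apply, hc0]
  have hmem : outPerm ∈ lineGroup := by
    rw [show outPerm = u by rw [← inv_mul_eq_one.1 hc1]]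
    exact (lineEquiv x).2
  have hstab : outPerm ∈ lineStab := ⟨hmem, Fin.ext (by
    show ((outPerm j0 : Fin 315) : ℕ) = _
    rw [outPerm_apply, j0_val]; exact out_check.2.2.1)⟩
  obtain ⟨p, hp⟩ := pairsEquiv.surjective ⟨outPerm, hstab⟩
  have hp' : p.1.1 = outPerm := congrArg Subtype.val hp
  have hsign : Equiv.Perm.sign p.1.2 = 1 :=
    Equiv.Perm.mem_alternatingGroup.1 (range_le_alt ⟨p, rfl⟩)
  refine absurd (hsign.symm.trans (out_odd p.1.2 fun x => ?_)) (by decide)
  have hlt : ∀ x : Fin 10, Data.blockPts.getD x 0 < 315 := by decide +kernel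
  have := pairs_lab p.2 ⟨_, hlt x⟩
  rwa [hp', outPerm_apply] at this

theorem card_out : Nat.card (Cfsg.Out J2) = 2 := by
  haveI := finite_J2
  haveI : IsSimpleGroup J2 := by
    obtain ⟨e⟩ := exists_equiv_J2
    haveI := Hundred.simple
    exact e.isSimpleGroup
  have hcenter : Subgroup.center J2 = ⊥ := by
    obtain ⟨e⟩ := exists_equiv_J2
    refine (Subgroup.eq_bot_iff_forall _).2 fun z hz => e.injective ?_
    rw [map_one]
    refine Subgroup.mem_bot.1 (center_grp ▸ Subgroup.mem_center_iff.2 fun b => ?_)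
    obtain ⟨b, rfl⟩ := e.surjective b
    rw [← map_mul, ← map_mul, Subgroup.mem_center_iff.1 hz b]
  have hinj : Function.Injective (MulAut.conj : J2 →* MulAut J2) := by
    rw [← MonoidHom.ker_eq_bot_iff, Subgroup.eq_bot_iff_forall]
    intro z hz
    refine Subgroup.mem_bot.1 (hcenter ▸ Subgroup.mem_center_iff.2 fun y => ?_)
    have : z * y * z⁻¹ = y := congrArg (fun a : MulAut J2 => a y) (MonoidHom.mem_ker.1 hz)
    exact (mul_inv_eq_iff_eq_mul.1 this).symm
  have hInn : Nat.card (Cfsg.Inn J2) = 604800 := by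
    rw [← card_J2]; exact (Nat.card_congr (MonoidHom.ofInjective hinj).toEquiv).symm
  have hprod := (Cfsg.Inn J2).card_mul_index
  have hle := card_aut_le
  haveI : Finite (MulAut J2) := Finite.of_injective (fun a : MulAut J2 => (a : J2 → J2)) DFunLike.coe_injective
  rw [← Subgroup.index_eq_card]
  obtain ⟨b, hb⟩ := exists_not_inner
  have h1 : (Cfsg.Inn J2).index ≠ 1 := fun h => hb (Subgroup.index_eq_one.1 h ▸ Subgroup.mem_top b)
  have h0 : (Cfsg.Inn J2).index ≠ 0 := Subgroup.index_ne_zero_of_finite
  rw [hInn] at hprod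
  omega

end CfsgLib.SporJ2.OutGraph

end
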