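import Cfsg.Agent.Schur.TwoCert

/-!
Data for the double cover of `J2` on 200 signed points and its multiplier certificate.
-/

set_option autoImplicit false
set_option maxRecDepth 20000

namespace CfsgLib.SporJ2.Cover

/-- The five lifts and the central involution, packed. -/
def letters : List ℕ := [
  34695401950510598451021423502296731076372739021898125785923297792578034148668162467882261928622393973417837882450053493998778750872675768063124105356970672847875797093260504751374622435241208298956967371535947904096992771629712699556039353018381822445775286271170979603487044179631076111251779259332959829200347232465460555514455514039504588887049458681773968169752885300222749023519559572059022592993951838711513156442808012080063417845141417200312909930508448405828025473967652865,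
  34524423847185690989799856377313517016643326770897577174457989335483067035283628669922975288265228478781750937386581744942568674265183420087626730924728754918517591388391136022887828202641468551143084476249163501408605651352102961074112412591533119446015143542176810361655676394153957796304418334254874283536260036015391603909978096419046421573565731188911364633326489108999147792409349079629401859607112082872795645443149023255603879911252147746446484387829417513414886062003717120,
  34694723445158880962726931420686523052673942637530113226017743082826682953396899941923172054816245000284913149757041976387499191601738670634672377764398979316486996790376746492011519433537105396998861723483143499553272002253864581195261677612494962311650520506865153993440959273313456029569434515276564793940696821653190139558752739086395385447554888287320489346513215043873987803285935810646907070112097404119319877080020832860334527649762937464861356763330443871629128043195531520,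
  16910710986779918780636110173639423285680822454921759221548794625287834794936118507755535149272830492410785794179581728084808563869246069893761439778277259262713477556290163453912231822398652666828509319658942482436774825450461512528412206515777012145001018442091592818036385274576742240637469323832095159325899540374992088998803047860103567293454258519753679349741123087287255932665190170222240445546711867078492975194936877103779987992333309722123320823634441648921459211211139430,
  34346422709194323741639479493678045681929876634569730365171332761188233608454781854703136265368425983299520851435542405366487177433805953034826840791834458727594415367893959814067693045995151432721308233207125298323191048203623512856714735478877495752710776361670307582976810966973510106889479199226780652379492166372990268564267306596156857079737776156306911439732159065562415425932183743953378669248907815039316595564930470460049598979906819549741641091740806217247205327303542275,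
  17261195563979424258173078881505887655340880523251174406449728931621960406201499102205795484089745236063289668399610159834855556065470031124380213173633429890937914613220973178263589921553608261644337349290706899430801981808157114581905129470127069983567945014034293435665580418644840394672110478581487824951509573895510738450413201236830072475780638517890582560439318236539176320676662223799403018512333323771639541321583163059868961798158784541886031483509879780965533328739820900]

/-- Words for the chosen elements. -/
def eltWords : List (List ℕ) := [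
  [5],
  [1, 0, 3, 2, 1, 0, 3, 2, 1, 0, 3, 4, 3, 2, 1, 0, 3, 2, 1, 3],
  [0, 1, 3, 2, 3, 4, 3, 2, 1, 0, 3, 2, 1, 3, 4, 3, 2, 3, 2, 1, 0, 4, 3],
  [1, 0, 2, 1, 3, 2, 1, 0, 1, 2, 3, 4, 3, 2, 3, 2, 1, 0, 1, 2, 3, 2, 4, 3, 2],
  [2, 1, 0, 1, 2, 3, 2, 1, 3, 4, 3, 2, 1, 3, 2, 3, 4, 3, 2, 1, 0, 1, 3, 2],
  [1, 2, 1, 0, 1, 2, 3, 2, 1, 4, 3, 2, 1, 0, 1, 2, 3, 2, 4, 3, 2, 1, 0],
  [0, 1, 4, 3, 2, 1, 3, 2, 1, 0, 1, 2, 3, 4, 3, 2, 1, 3, 2, 1, 3, 2],
  [1, 0, 1, 3, 2, 3, 2, 1, 0, 1, 4, 3, 2, 1, 3, 2, 1, 0, 1, 4, 3, 2, 1],
  [1, 0, 1, 2, 3, 2, 1, 0, 1, 3, 4, 3, 2, 3, 2, 1, 4, 3, 2, 3, 2, 4, 3],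
  [1, 0, 1, 0, 2, 1, 0, 3, 2, 1, 3, 4, 3, 2, 1, 0, 3, 2, 1, 0, 1, 4, 3],
  [0, 1, 2, 4, 3, 2, 1, 0, 1, 3, 2, 3, 4, 3, 2, 1, 3, 2, 3, 2, 1, 0, 4, 3, 0, 1, 2, 4, 3, 2, 1, 0, 1, 3, 2, 3, 4, 3, 2, 1, 3, 2, 3, 2, 1, 0, 4, 3, 0, 1, 2, 4, 3, 2, 1, 0, 1, 3, 2, 3, 4, 3, 2, 1, 3, 2, 3, 2, 1, 0, 4, 3, 0, 1, 2, 4, 3, 2, 1, 0, 1, 3, 2, 3, 4, 3, 2, 1, 3, 2, 3, 2, 1, 0, 4, 3],
  [2, 3, 4, 3, 2, 1, 3, 2, 3, 2, 1, 0, 4, 3, 2, 1, 0, 1, 3, 2, 1, 3, 4, 2, 3, 4, 3, 2, 1, 3, 2, 3, 2, 1, 0, 4, 3, 2, 1, 0, 1, 3, 2, 1, 3, 4, 2, 3, 4, 3, 2, 1, 3, 2, 3, 2, 1, 0, 4, 3, 2, 1, 0, 1, 3, 2, 1, 3, 4, 2, 3, 4, 3, 2, 1, 3, 2, 3, 2, 1, 0, 4, 3, 2, 1, 0, 1, 3, 2, 1, 3, 4],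
  [1, 2, 1, 4, 3, 2, 1, 0, 1, 2, 3, 2, 1, 4],
  [0, 1, 0, 1, 2, 1, 3, 2, 3, 4, 3, 2, 1, 0, 3, 2, 1, 0, 3, 2, 4, 3, 0, 1, 0, 1, 2, 1, 3, 2, 3, 4, 3, 2, 1, 0, 3, 2, 1, 0, 3, 2, 4, 3, 0, 1, 0, 1, 2, 1, 3, 2, 3, 4, 3, 2, 1, 0, 3, 2, 1, 0, 3, 2, 4, 3, 0, 1, 0, 1, 2, 1, 3, 2, 3, 4, 3, 2, 1, 0, 3, 2, 1, 0, 3, 2, 4, 3, 0, 1, 0, 1, 2, 1, 3, 2, 3, 4, 3, 2, 1, 0, 3, 2, 1, 0, 3, 2, 4, 3, 0, 1, 0, 1, 2, 1, 3, 2, 3, 4, 3, 2, 1, 0, 3, 2, 1, 0, 3, 2, 4, 3],
  [0, 1, 0, 1, 2, 1, 3, 2, 1, 3, 4, 3, 2, 1, 3, 2, 1, 0, 1, 0, 3, 2, 4, 3, 0, 1, 0, 1, 2, 1, 3, 2, 1, 3, 4, 3, 2, 1, 3, 2, 1, 0, 1, 0, 3, 2, 4, 3, 0, 1, 0, 1, 2, 1, 3, 2, 1, 3, 4, 3, 2, 1, 3, 2, 1, 0, 1, 0, 3, 2, 4, 3, 0, 1, 0, 1, 2, 1, 3, 2, 1, 3, 4, 3, 2, 1, 3, 2, 1, 0, 1, 0, 3, 2, 4, 3, 0, 1, 0, 1, 2, 1, 3, 2, 1, 3, 4, 3, 2, 1, 3, 2, 1, 0, 1, 0, 3, 2, 4, 3, 0, 1, 0, 1, 2, 1, 3, 2, 1, 3, 4, 3, 2, 1, 3, 2, 1, 0, 1, 0, 3, 2, 4, 3],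
  [1, 0, 1]]

/-- The chosen elements, packed. -/
def eltCodes : List ℕ := [
  17261195563979424258173078881505887655340880523251174406449728931621960406201499102205795484089745236063289668399610159834855556065470031124380213173633429890937914613220973178263589921553608261644337349290706899430801981808157114581905129470127069983567945014034293435665580418644840394672110478581487824951509573895510738450413201236830072475780638517890582560439318236539176320676662223799403018512333323771639541321583163059868961798158784541886031483509879780965533328739820900,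
  187656845215431271989184854778210016340709710795030000013780380707505661732243278875056045745267088859129598109750697146244055089884368736112468775715091199851139971928900820231757642228307711315112925617049020842793001785637517515059992134167413021434718643259761529111287852776837818183946640305317578622359129536156409219913617652518265460458377714302735025442535748369201027732117577698046873147819532391689030462537511499963925907840321832587606351868153584391787697418167205,
  10166304872685981085110910713682070566897470838052062893882790196829842830670437259500431281659994781241298262486698680012620309888852111094139868942435550093586601943077621563909348752155510639389754643080549354738457839273472255259374787646798246031238640015917961476023464679221407030534908371550930082621877829371797148773564613824154643999996661819055749385858724191723636905769447731182188416220329568193539075508980286403462272516710574015622687622835061212190846171756436160,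
  4469695692456432342418147940533222711551539388859254538691157628092290325486575100100204390907670640921962417192882466488043722867651745583926321758782532348044539634602144036399179254148730704308581351332377970904705858021159373843714196166053052468446420828559969322911810027755241899232192840190698879546516586873444672584574630384891419911549824344692893593557469497312106065240533965519388379931749408501935662372494207999260655262991144535749546416052429285506499916684818350,
  13984987333642538376499867628818078216580559224455215633368837749203623862040359689172538385660553597895714642163126530930032106038436918702411365552991080272318229046075965774649284653451607802060918017466312596791214853266565428562858786270627583270752976391622513288119971501848409492049294949399242398918079408743453330220198926127162264216220508344267916313065153200125733939947099608310739296413965768906509292016265373191891095663554235044603053282550382634539231978789314725,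
  12745297987374686159800808394082689150413525652632720424168848831815886456198551269589351363822929916825696733653299911493324107813264164840256575661387008091250385488222213867772155797270878603152900572229372583846331855997842498863165575396989014622430996093052730823125425164977479017279403636846378407578668836020345746715521876980781001395089138928063662274986604035369556475053088039468382931209736671588987551921341092436682334374536304014306868081137185720756541351956299620,
  26301315537945736186965960378509426460349554551121127172744020772088400769345353567926208652628810162788182807254610698777796754686837198997849644046654819708332141498763405406382298770234346111874963407209740533437069559528124722477683436303362654869776172271656592616724111195548059175920315139334789202783723573617012696998038930108264252665023410803239176630313135314271977026076372487335818019286734239647024856377509597651134621320350970246072950339402412157241270495145344330,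
  25629695062092867053029247680003539788440916007068964279357309003000761508797095991211968202590301290556349789067663721517342023476284312181976822655934016013825644787796797902245807735882413797034049328877026284577283770797075977201265770594147878107854767517292288555608254195911861626752355729834229458774736539286064741978821772029906089594951993477735692420664085968526341543179787772713794819862023606474892890139086772649766515868848145959349872455450774607338707854050938880,
  30999068889890602257225042974172386986243425893241555617161642126019703484217180772377061673061445586884284518126763766528410895776946535352113948364632958140171105928236526101570740971877793108140098849532540186765830003052293749850691670569407320262080508814772709008229111201429913115221099881614955403787425220333853305598697095796594052619111413591880490025291307127139437305813949518063119728616963251166730918229742773777535652823623842111927044809143755813485264310710712205,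
  3949592415710153980525975322260149845382208440328372247360704100531237447728984026134526041507577306719549178999874060747239725389106081880897913303543465187033835750085030129549611350901335869256233407480917315382963552802783373141830265997373904801711009519363720048138185358720380895295551361064380500275801757679322955938443546399731551645641407644930150003268957848021918464097009147462220278453270180092173180548354097750127456485415459996296558203442552504819615758711833385,
  18461464824170542052777746037408022259735259859770386809800434749814848544528436435100165763999446794682432285215449433255453412912552643663907751407163205960619451485874012744780913315211351709696031300507163128540685743049005818275228033795551783852408652626114994542248867775398245981266394124488703526971194619611950019683787824439755980438906179147699255933775837754079076503937416277869544658246726580722509805129204117061791873930065526728367099497280111372857891322314699520,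
  2527571182458281270040227308893426081077821853670909254148284025525675834879206827029710418691876814537380263289403073837897271751994394490545546513202755659410368173455711428444346813394694879069007306981802090885828908425878083641442115355751715491488748930233784091846913426291731080578971359911498086995226985825226854246930676592207357574547194741303860483695010242267355386363392352345724788816440325122621093542663953176668703029744080826937382159116681293713550576767361280,
  34613835802716817555420329368043208693433466217440694609033212227968340942607671148359631772538311052502570349820704393328901947596549526030472806920002024449116022511318077314731974892498787180216075555895845274396278377901657777802932041731436387486047975007957058925819949511251344100217897947621016232744676792845020998416992611080577156113463558497454277226404021479607819149995257261009054707219281503938730795951325291566808025834001647538608488234515428762420552241240080640,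
  1774822024058259215906546251794722554047684204788571966961806316708305037856667705325398452407153277897987468314824644901925472319908716285030663570501480740115320442405932380229280065921419390864254404514995977954417617485286106618972744092805476239988296488181094760838399044352080095196496837703880240008042728797561982098738668488495267936523209844902398684191039947171715532953819074983813777689210984920398681351000566935832729857652923534550989130628026980803356792929344845,
  17382735397237144008949807792251548712272841641800494542029526437746273439811176908853220492503522694552119249823161008692147333321637954972425856766185226138954785591746725791446879163508105526343227669886096486140336231916220765862064796829902670673547789950835077444241983324959277676818737746470391790252803369012458931169306721041611077631318149125192759491946128071416007210346951384268794670778084251320191964473732063108241997476135795695927026883318713267462226389963656390,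
  33481620405842963617972047056038118246343522573467119215903836615034140603050200803655132649243822652573489423335010433631734139672150091255467770235428756885899443355537501369737170768839427793308081280070296312763588864860402593846707808935769949333561169707283271013359997776277552599186217354423014504485537700539845234957549485981013315628269965728918344794143826271274343806216385092132742542619627862486821738802243676844477503545903337057482177554555944484115137414321278980]

/-- Words for the elements of a subgroup. -/
def twoWords : List (List ℕ) := [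
  [],
  [0],
  [1],
  [2],
  [3],
  [4],
  [5],
  [6],
  [7],
  [0, 1],
  [0, 2],
  [0, 3],
  [0, 4],
  [0, 5],
  [0, 6],
  [0, 7],
  [1, 2],
  [1, 3],
  [1, 4],
  [1, 5],
  [1, 6],
  [1, 7],
  [2, 1],
  [2, 3],
  [2, 4],
  [2, 5],
  [2, 6],
  [2, 7],
  [3, 1],
  [3, 2],
  [3, 4],
  [3, 5],
  [3, 6],
  [3, 7],
  [4, 2],
  [4, 3],
  [4, 5],
  [4, 6],
  [4, 7],
  [5, 1],
  [5, 2],
  [5, 3],
  [5, 4],
  [5, 5],
  [5, 6],
  [5, 7],
  [6, 1],
  [6, 2],
  [6, 3],
  [6, 4],
  [6, 5],
  [6, 7],
  [7, 1],
  [7, 2],
  [7, 3],
  [7, 4],
  [7, 5],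
  [7, 6],
  [7, 7],
  [0, 1, 4],
  [0, 1, 6],
  [0, 1, 7],
  [0, 2, 5],
  [0, 2, 6],
  [0, 2, 7],
  [0, 3, 5],
  [0, 3, 6],
  [0, 3, 7],
  [0, 4, 6],
  [0, 4, 7],
  [0, 5, 2],
  [0, 5, 3],
  [0, 5, 5],
  [0, 5, 6],
  [0, 5, 7],
  [0, 6, 1],
  [0, 6, 2],
  [0, 6, 3],
  [0, 6, 4],
  [0, 6, 5],
  [0, 6, 7],
  [0, 7, 1],
  [0, 7, 2],
  [0, 7, 3],
  [0, 7, 4],
  [0, 7, 5],
  [0, 7, 6],
  [0, 7, 7],
  [1, 2, 4],
  [1, 2, 6],
  [1, 2, 7],
  [1, 3, 4],
  [1, 3, 5],
  [1, 3, 7],
  [1, 4, 2],
  [1, 4, 3],
  [1, 4, 5],
  [1, 4, 6],
  [1, 4, 7],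
  [1, 5, 1],
  [1, 5, 2],
  [1, 5, 6],
  [1, 5, 7],
  [1, 6, 1],
  [1, 6, 3],
  [1, 6, 4],
  [1, 6, 5],
  [1, 6, 7],
  [1, 7, 1],
  [1, 7, 2],
  [1, 7, 3],
  [1, 7, 4],
  [1, 7, 5],
  [1, 7, 6],
  [1, 7, 7],
  [2, 1, 6],
  [2, 1, 7],
  [2, 3, 5],
  [2, 3, 7],
  [2, 4, 5],
  [2, 4, 6],
  [2, 4, 7],
  [2, 5, 1],
  [2, 5, 2],
  [2, 5, 6],
  [2, 5, 7],
  [2, 6, 2],
  [2, 6, 5],
  [2, 6, 7],
  [2, 7, 1],
  [2, 7, 4],
  [2, 7, 6],
  [3, 1, 5],
  [3, 1, 7],
  [3, 2, 5],
  [3, 2, 7],
  [3, 4, 7],
  [3, 5, 3],
  [3, 5, 6],
  [3, 5, 7],
  [3, 6, 1],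
  [3, 6, 3],
  [3, 6, 5],
  [3, 6, 7],
  [3, 7, 1],
  [3, 7, 2],
  [3, 7, 3],
  [3, 7, 4],
  [3, 7, 5],
  [4, 2, 6],
  [4, 2, 7],
  [4, 3, 6],
  [4, 3, 7],
  [4, 5, 3],
  [4, 5, 6],
  [4, 5, 7],
  [4, 6, 5],
  [4, 7, 1],
  [4, 7, 2],
  [4, 7, 3],
  [4, 7, 4],
  [4, 7, 5],
  [4, 7, 6],
  [5, 1, 3],
  [5, 1, 5],
  [5, 1, 6],
  [5, 1, 7],
  [5, 2, 3],
  [5, 2, 6],
  [5, 2, 7],
  [5, 3, 2],
  [5, 4, 2],
  [5, 4, 6],
  [5, 4, 7],
  [5, 5, 5],
  [5, 5, 7],
  [5, 6, 2],
  [5, 6, 3],
  [5, 6, 7],
  [5, 7, 1],
  [5, 7, 3],
  [5, 7, 4],
  [5, 7, 5],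
  [6, 1, 7],
  [6, 2, 7],
  [6, 3, 4],
  [6, 5, 3],
  [6, 5, 7],
  [6, 7, 2],
  [6, 7, 3],
  [6, 7, 4],
  [6, 7, 6],
  [7, 1, 2],
  [7, 1, 3],
  [7, 1, 4],
  [7, 1, 5],
  [7, 2, 1],
  [7, 2, 3],
  [7, 2, 4],
  [7, 2, 5],
  [7, 2, 6],
  [7, 3, 1],
  [7, 3, 4],
  [7, 3, 5],
  [7, 4, 2],
  [7, 5, 2],
  [7, 5, 4],
  [7, 5, 5],
  [7, 7, 7],
  [0, 1, 6, 1],
  [0, 1, 6, 5],
  [0, 1, 6, 7],
  [0, 1, 7, 1],
  [0, 1, 7, 3],
  [0, 1, 7, 5],
  [0, 2, 5, 2],
  [0, 2, 5, 6],
  [0, 2, 6, 5],
  [0, 2, 6, 7],
  [0, 2, 7, 1],
  [0, 3, 5, 6],
  [0, 3, 6, 5],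
  [0, 3, 7, 1],
  [0, 3, 7, 3],
  [0, 3, 7, 5],
  [0, 4, 6, 5],
  [0, 4, 7, 2],
  [0, 4, 7, 4],
  [0, 5, 2, 6],
  [0, 5, 2, 7],
  [0, 5, 6, 2],
  [0, 5, 6, 3],
  [0, 5, 7, 3],
  [0, 6, 5, 3],
  [0, 6, 5, 7],
  [0, 6, 7, 2],
  [0, 6, 7, 3],
  [0, 7, 2, 6],
  [0, 7, 5, 2],
  [0, 7, 7, 7],
  [1, 3, 4, 7],
  [1, 3, 7, 5],
  [1, 4, 3, 7],
  [1, 4, 5, 6],
  [1, 4, 5, 7],
  [1, 4, 6, 5],
  [1, 4, 7, 5],
  [1, 5, 1, 6],
  [1, 5, 1, 7],
  [1, 5, 7, 1],
  [1, 5, 7, 4],
  [1, 6, 7, 6],
  [1, 7, 1, 5],
  [1, 7, 5, 4],
  [2, 5, 2, 6],
  [3, 1, 7, 5]]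

/-- Points separating these elements. -/
def twoBase : List ℕ := [1, 2]

/-- Words for the elements of a subgroup. -/
def threeWords : List (List ℕ) := [
  [],
  [10],
  [11],
  [10, 10],
  [10, 11],
  [11, 10],
  [11, 11],
  [10, 10, 11],
  [10, 11, 10],
  [10, 11, 11],
  [11, 10, 10],
  [11, 10, 11],
  [11, 11, 10],
  [10, 10, 11, 10],
  [10, 10, 11, 11],
  [10, 11, 10, 10],
  [10, 11, 10, 11],
  [10, 11, 11, 10],
  [11, 10, 11, 11],
  [11, 11, 10, 11],
  [10, 10, 11, 10, 10],
  [10, 10, 11, 10, 11],
  [10, 10, 11, 11, 10],
  [10, 11, 10, 11, 11],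
  [10, 11, 11, 10, 11],
  [10, 10, 11, 10, 11, 11],
  [10, 10, 11, 11, 10, 11]]

/-- Products with the generators. -/
def threeNext : List (List ℕ) := [
  [1, 2],
  [3, 4],
  [5, 6],
  [0, 7],
  [8, 9],
  [10, 11],
  [12, 0],
  [13, 14],
  [15, 16],
  [17, 1],
  [2, 17],
  [14, 18],
  [16, 19],
  [20, 21],
  [22, 3],
  [4, 22],
  [6, 23],
  [21, 24],
  [23, 5],
  [24, 20],
  [7, 12],
  [9, 25],
  [11, 26],
  [25, 8],
  [26, 10],
  [18, 13],
  [19, 15]]

/-- Points separating these elements. -/
def threeBase : List ℕ := [1]

/-- Words for the elements of a subgroup. -/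
def fiveWords : List (List ℕ) := [
  [],
  [13],
  [14],
  [13, 13],
  [13, 14],
  [14, 14],
  [13, 13, 13],
  [13, 13, 14],
  [13, 14, 14],
  [14, 14, 14],
  [13, 13, 13, 13],
  [13, 13, 13, 14],
  [13, 13, 14, 14],
  [13, 14, 14, 14],
  [14, 14, 14, 14],
  [13, 13, 13, 13, 14],
  [13, 13, 13, 14, 14],
  [13, 13, 14, 14, 14],
  [13, 14, 14, 14, 14],
  [13, 13, 13, 13, 14, 14],
  [13, 13, 13, 14, 14, 14],
  [13, 13, 14, 14, 14, 14],
  [13, 13, 13, 13, 14, 14, 14],
  [13, 13, 13, 14, 14, 14, 14],
  [13, 13, 13, 13, 14, 14, 14, 14]]

/-- Products with the generators. -/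
def fiveNext : List (List ℕ) := [
  [1, 2],
  [3, 4],
  [4, 5],
  [6, 7],
  [7, 8],
  [8, 9],
  [10, 11],
  [11, 12],
  [12, 13],
  [13, 14],
  [0, 15],
  [15, 16],
  [16, 17],
  [17, 18],
  [18, 0],
  [2, 19],
  [19, 20],
  [20, 21],
  [21, 1],
  [5, 22],
  [22, 23],
  [23, 3],
  [9, 24],
  [24, 6],
  [14, 10]]

/-- Points separating these elements. -/
def fiveBase : List ℕ := [0]

/-- The certificate. -/
def cert : CfsgLib.Schur.TwoCert.Cert where
  n := 8
  rules := [
    ([0, 0], []),
    ([0, 1], [1, 0]),
    ([1, 1], [0]),
    ([0, 2], [2, 0]),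
    ([1, 2], [2, 1, 0]),
    ([2, 2], [0]),
    ([0, 3], [3, 0]),
    ([1, 3], [3, 1, 0]),
    ([2, 3], [3, 2, 0]),
    ([3, 3], [0]),
    ([0, 4], [4, 0]),
    ([1, 4], [4, 1]),
    ([2, 4], [4, 2, 0]),
    ([3, 4], [4, 3, 0]),
    ([4, 4], [0]),
    ([0, 5], [5, 0]),
    ([1, 5], [5, 4, 0]),
    ([2, 5], [5, 4, 3, 0]),
    ([3, 5], [5, 2, 1]),
    ([4, 5], [5, 1, 0]),
    ([5, 5], [3, 2, 1, 0]),
    ([0, 6], [6, 0]),
    ([1, 6], [6, 4, 3, 2, 1]),
    ([2, 6], [6, 3, 1, 0]),
    ([3, 6], [6, 4, 3, 1, 0]),
    ([4, 6], [6, 3, 2, 0]),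
    ([5, 6], [6, 5, 3, 2, 1, 0]),
    ([6, 6], [3, 2, 1, 0]),
    ([0, 7], [7, 0]),
    ([1, 7], [7, 6, 4, 2, 1]),
    ([2, 7], [7, 5, 3, 0]),
    ([3, 7], [7, 6, 5, 4]),
    ([4, 7], [7, 6, 4, 3]),
    ([5, 7], [7, 6, 5, 2, 1, 0]),
    ([6, 7], [7, 5, 4, 2, 1, 0]),
    ([7, 7], [4, 3, 2, 0]),
    ([8, 0], [0, 8]),
    ([8, 1], [2, 0, 8]),
    ([8, 2], [4, 3, 1, 8]),
    ([8, 3], [4, 0, 8]),
    ([8, 4], [4, 2, 1, 0, 8]),
    ([8, 5], [6, 5, 0, 8]),
    ([8, 6], [5, 4, 1, 8]),
    ([8, 7], [7, 6, 4, 2, 8]),
    ([9, 0], [0, 9]),
    ([9, 4, 1], [7, 6, 5, 3, 1, 0, 9]),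
    ([9, 3, 2, 1], [7, 6, 5, 4, 2, 1, 9]),
    ([9, 7], [7, 6, 5, 4, 3, 0, 9]),
    ([9, 5, 1], [6, 3, 9]),
    ([9, 6, 3], [7, 6, 3, 9])]
  eqs := [
    ([0, 1, 5], [(0, 1, true), (1, 15, true), (0, 16, true), (2, 0, true)], [(1, 16, true), (0, 15, true), (1, 10, true), (2, 0, true)]),
    ([0, 1, 6], [(0, 1, true), (1, 21, true), (0, 22, true)], [(1, 22, true), (0, 21, true), (1, 10, true), (2, 6, true), (3, 3, true), (4, 1, true)]),
    ([0, 1, 7], [(0, 1, true), (1, 28, true), (0, 29, true)], [(1, 29, true), (0, 28, true), (1, 21, true), (2, 10, true), (3, 3, true), (4, 1, true)]),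
    ([0, 2, 7], [(0, 3, true), (1, 28, true), (0, 30, true), (3, 0, true)], [(1, 30, true), (0, 28, true), (1, 15, true), (2, 6, true), (3, 0, true)]),
    ([1, 1, 1], [(0, 2, true), (0, 1, true)], [(1, 2, true)]),
    ([1, 1, 2], [(0, 2, true), (0, 3, true)], [(1, 4, true), (0, 4, true), (2, 1, true), (1, 2, true), (1, 0, true)]),
    ([1, 1, 5], [(0, 2, true), (0, 15, true)], [(1, 16, true), (0, 16, true), (2, 10, true), (1, 14, true), (1, 0, true)]),
    ([1, 1, 6], [(0, 2, true), (0, 21, true)], [(1, 22, true), (0, 22, true), (4, 11, true), (3, 12, true), (2, 13, true), (1, 14, true), (1, 6, true), (2, 0, true), (3, 1, true), (4, 6, true), (3, 7, true), (2, 8, true), (1, 9, true), (1, 3, true), (2, 0, true), (3, 0, true), (2, 4, true), (1, 5, true), (1, 1, true), (2, 0, true), (1, 2, true)]),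
    ([1, 1, 7], [(0, 2, true), (0, 28, true)], [(1, 29, true), (0, 29, true), (4, 22, true), (3, 23, true), (2, 25, true), (1, 27, true), (4, 6, true), (3, 7, true), (2, 8, true), (1, 9, true), (1, 3, true), (2, 0, true), (3, 0, true), (2, 4, true), (1, 5, true), (1, 1, true), (2, 0, true), (2, 6, true), (1, 7, true), (3, 0, true), (2, 2, true), (2, 0, true), (1, 13, true), (3, 6, true), (2, 9, true), (2, 0, true), (3, 11, true), (2, 12, true), (1, 14, true), (1, 3, true), (2, 0, true), (2, 4, true), (1, 5, true), (1, 1, true), (2, 0, true), (1, 2, true)]),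
    ([1, 2, 5], [(0, 4, true), (2, 15, true), (1, 16, true), (0, 17, true), (3, 10, true), (2, 13, true), (1, 14, true), (1, 6, true), (2, 0, true), (2, 0, true)], [(1, 17, true), (0, 16, true), (2, 10, true), (1, 14, true), (1, 0, true)]),
    ([1, 2, 6], [(0, 4, true), (2, 21, true), (1, 22, true), (0, 23, true), (3, 10, true), (2, 11, true), (1, 13, true), (3, 1, true), (4, 0, true), (3, 7, true), (2, 9, true), (2, 1, true), (3, 0, true), (2, 4, true), (4, 1, true), (3, 2, true), (3, 0, true)], [(1, 23, true), (0, 22, true), (4, 7, true), (3, 8, true), (2, 9, true), (2, 3, true), (3, 0, true), (4, 1, true), (3, 2, true), (3, 0, true)]),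
    ([1, 2, 7], [(0, 4, true), (2, 28, true), (1, 29, true), (0, 30, true), (3, 21, true), (2, 24, true), (1, 26, true), (6, 10, true), (5, 11, true), (4, 12, true), (3, 13, true), (5, 3, true), (6, 0, true), (7, 6, true), (6, 7, true), (5, 8, true), (4, 9, true), (4, 3, true), (5, 0, true), (6, 0, true), (5, 2, true), (5, 0, true), (5, 10, true), (4, 12, true), (3, 14, true), (3, 3, true), (4, 0, true), (4, 3, true), (3, 5, true), (3, 0, true)], [(1, 30, true), (0, 29, true), (4, 16, true), (3, 17, true), (2, 19, true), (4, 10, true), (3, 11, true), (5, 6, true), (4, 7, true), (6, 0, true), (6, 10, true), (5, 11, true), (4, 13, true), (3, 14, true), (3, 6, true), (4, 0, true), (5, 0, true), (4, 7, true), (3, 9, true), (3, 1, true), (4, 0, true)]),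
    ([1, 3, 5], [(0, 7, true), (2, 15, true), (1, 16, true), (0, 18, true), (2, 11, true), (1, 12, true), (3, 1, true), (4, 0, true)], [(1, 18, true), (0, 16, true), (2, 3, true), (3, 1, true)]),
    ([1, 3, 7], [(0, 7, true), (2, 28, true), (1, 29, true), (0, 31, true), (3, 25, true), (2, 26, true), (1, 27, true), (4, 15, true), (3, 16, true), (2, 17, true), (1, 18, true), (3, 11, true), (2, 12, true), (4, 1, true), (5, 6, true), (4, 7, true), (3, 8, true), (5, 1, true), (6, 0, true), (6, 0, true), (5, 11, true), (4, 12, true), (3, 13, true), (2, 14, true), (2, 6, true), (3, 0, true), (4, 1, true), (5, 0, true), (5, 6, true), (4, 7, true), (3, 8, true), (2, 9, true), (2, 3, true), (3, 0, true), (4, 0, true), (3, 4, true), (2, 5, true), (2, 1, true), (3, 0, true), (2, 2, true), (2, 0, true), (4, 10, true), (3, 12, true), (2, 13, true), (4, 3, true), (5, 0, true), (5, 3, true), (4, 5, true), (4, 0, true)], [(1, 31, true), (0, 29, true), (4, 22, true), (3, 23, true), (2, 25, true), (1, 27, true), (4, 6, true), (3, 7, true), (2, 8, true), (1, 9, true), (1, 3, true),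 (2, 0, true), (3, 0, true), (2, 4, true), (1, 5, true), (1, 1, true), (2, 0, true), (2, 6, true), (1, 7, true), (3, 0, true), (2, 2, true), (2, 0, true), (1, 13, true), (3, 6, true), (2, 9, true), (2, 0, true), (3, 16, true), (2, 17, true), (1, 19, true), (3, 10, true), (2, 11, true), (4, 6, true), (3, 7, true), (5, 0, true), (5, 10, true), (4, 11, true), (3, 13, true), (2, 14, true), (2, 6, true), (3, 0, true), (4, 0, true), (3, 11, true), (2, 13, true), (4, 1, true)]),
    ([1, 4, 7], [(0, 11, true), (1, 29, true), (0, 32, true), (3, 24, true), (2, 25, true), (1, 27, true), (4, 6, true), (3, 7, true), (2, 8, true), (1, 9, true), (1, 3, true), (2, 0, true), (3, 0, true), (2, 4, true), (1, 5, true), (1, 1, true), (2, 0, true), (2, 10, true), (1, 11, true), (3, 6, true), (2, 7, true), (4, 0, true), (3, 2, true), (3, 0, true), (2, 13, true), (1, 14, true), (1, 6, true), (2, 0, true)], [(1, 32, true), (0, 29, true), (4, 22, true), (3, 23, true), (2, 25, true), (1, 27, true), (4, 6, true), (3, 7, true), (2, 8, true), (1, 9, true), (1, 3, true), (2, 0, true), (3, 0,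 true), (2, 4, true), (1, 5, true), (1, 1, true), (2, 0, true), (2, 6, true), (1, 7, true), (3, 0, true), (2, 2, true), (2, 0, true), (1, 13, true), (3, 6, true), (2, 9, true), (2, 0, true), (3, 11, true), (2, 12, true), (1, 14, true), (1, 3, true), (2, 0, true), (2, 7, true), (1, 8, true), (3, 1, true), (4, 0, true)]),
    ([1, 5, 5], [(0, 16, true), (2, 15, true), (1, 19, true), (0, 20, true), (3, 1, true), (2, 2, true), (2, 0, true), (2, 0, true)], [(1, 20, true), (0, 7, true), (2, 3, true), (1, 4, true), (3, 0, true), (2, 2, true), (2, 0, true)]),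
    ([1, 5, 6], [(0, 16, true), (2, 21, true), (1, 25, true), (0, 26, true), (5, 6, true), (4, 7, true), (3, 8, true), (2, 9, true), (2, 3, true), (3, 0, true), (4, 0, true), (3, 4, true), (2, 5, true), (2, 1, true), (3, 0, true), (3, 0, true)], [(1, 26, true), (0, 22, true), (4, 16, true), (3, 17, true), (2, 18, true), (1, 19, true), (3, 3, true), (2, 4, true), (4, 0, true), (3, 2, true), (3, 10, true), (2, 12, true), (4, 0, true), (3, 8, true), (5, 0, true), (4, 12, true), (3, 13, true), (2, 14, true), (2, 6, true), (3, 0, true), (4, 0, true), (3, 8, true), (2, 9, true), (2, 3, true), (3, 0, true), (2, 5, true), (2, 1, true), (3, 0, true)]),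
    ([1, 5, 7], [(0, 16, true), (2, 28, true), (1, 32, true), (0, 33, true), (5, 21, true), (4, 22, true), (3, 23, true), (2, 26, true), (1, 27, true), (4, 15, true), (3, 16, true), (2, 17, true), (1, 18, true), (3, 11, true), (2, 12, true), (4, 1, true), (5, 6, true), (4, 7, true), (3, 8, true), (5, 1, true), (6, 0, true), (6, 0, true), (5, 11, true), (4, 12, true), (3, 13, true), (2, 14, true), (2, 6, true), (3, 0, true), (4, 1, true), (5, 0, true), (5, 6, true), (4, 7, true), (3, 8, true), (2, 9, true), (2, 3, true), (3, 0, true), (4, 0, true), (3, 4, true), (2, 5, true), (2, 1, true), (3, 0, true), (2, 2, true), (2, 0, true), (4, 10, true), (3, 11, true), (2, 13, true), (4, 1, true), (5, 0, true), (4, 7, true), (3, 9, true), (3, 1, true), (4, 0, true), (3, 4, true), (5, 1, true), (4, 2, true), (4, 0, true), (4, 10, true), (3, 12, true), (2, 14, true), (2, 3, true), (3, 0, true), (3, 6, true), (2, 8, true), (4, 0, true)], [(1, 33, true), (0, 29, true), (4, 22, true), (3, 23, true), (2, 25, true), (1, 27, true), (4, 6, true), (3, 7, true), (2, 8, true), (1,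 9, true), (1, 3, true), (2, 0, true), (3, 0, true), (2, 4, true), (1, 5, true), (1, 1, true), (2, 0, true), (2, 6, true), (1, 7, true), (3, 0, true), (2, 2, true), (2, 0, true), (1, 13, true), (3, 6, true), (2, 9, true), (2, 0, true), (3, 16, true), (2, 17, true), (1, 19, true), (3, 10, true), (2, 11, true), (4, 6, true), (3, 7, true), (5, 0, true), (5, 10, true), (4, 11, true), (3, 13, true), (2, 14, true), (2, 6, true), (3, 0, true), (4, 0, true), (3, 4, true), (5, 1, true), (4, 2, true), (4, 0, true)]),
    ([1, 6, 7], [(0, 22, true), (4, 29, true), (3, 30, true), (2, 31, true), (1, 32, true), (0, 34, true), (5, 21, true), (4, 22, true), (3, 23, true), (2, 25, true), (1, 26, true), (6, 6, true), (5, 7, true), (4, 8, true), (3, 9, true), (3, 3, true), (4, 0, true), (5, 0, true), (4, 4, true), (3, 5, true), (3, 1, true), (4, 0, true), (4, 6, true), (3, 7, true), (5, 0, true), (4, 2, true), (4, 0, true), (3, 13, true), (5, 6, true), (4, 9, true), (4, 0, true), (6, 10, true), (5, 11, true), (4, 12, true), (3, 14, true), (3, 3, true), (4, 0, true), (5, 6, true),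 (4, 7, true), (3, 8, true), (5, 1, true), (6, 0, true), (6, 21, true), (5, 22, true), (4, 23, true), (3, 24, true), (2, 26, true), (1, 27, true), (4, 15, true), (3, 16, true), (2, 17, true), (1, 18, true), (3, 11, true), (2, 12, true), (4, 1, true), (5, 6, true), (4, 7, true), (3, 8, true), (5, 1, true), (6, 0, true), (6, 0, true), (5, 11, true), (4, 12, true), (3, 13, true), (2, 14, true), (2, 6, true), (3, 0, true), (4, 1, true), (5, 0, true), (5, 6, true), (4, 7, true), (3, 8, true), (2, 9, true), (2, 3, true), (3, 0, true), (4, 0, true), (3, 4, true), (2, 5, true), (2, 1, true), (3, 0, true), (2, 2, true), (2, 0, true), (5, 6, true), (4, 7, true), (3, 9, true), (3, 1, true), (4, 0, true), (4, 1, true), (3, 2, true), (3, 0, true), (3, 10, true), (2, 14, true), (2, 0, true), (5, 15, true), (4, 16, true), (3, 17, true), (2, 18, true), (1, 20, true), (4, 3, true), (3, 4, true), (2, 5, true), (2, 1, true), (3, 0, true), (3, 1, true), (2, 2, true), (2, 0, true), (1, 13, true), (3, 6, true), (2, 9, true), (2, 0, true), (2, 10, true), (1, 14, true), (1, 0, true),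 (1, 0, true), (1, 19, true), (3, 6, true), (2, 7, true), (4, 0, true), (4, 21, true), (3, 22, true), (2, 24, true), (1, 26, true), (6, 10, true), (5, 11, true), (4, 12, true), (3, 13, true), (5, 3, true), (6, 0, true), (7, 6, true), (6, 7, true), (5, 8, true), (4, 9, true), (4, 3, true), (5, 0, true), (6, 0, true), (5, 2, true), (5, 0, true), (4, 12, true), (3, 14, true), (3, 3, true), (4, 0, true), (3, 8, true), (5, 3, true), (4, 5, true), (4, 0, true), (5, 10, true), (4, 11, true), (3, 13, true), (5, 1, true), (6, 0, true), (5, 4, true), (7, 1, true), (6, 2, true), (6, 0, true)], [(1, 34, true), (0, 29, true), (4, 16, true), (3, 17, true), (2, 19, true), (4, 10, true), (3, 11, true), (5, 6, true), (4, 7, true), (6, 0, true), (6, 10, true), (5, 11, true), (4, 13, true), (3, 14, true), (3, 6, true), (4, 0, true), (5, 0, true), (4, 11, true), (3, 13, true), (5, 1, true), (6, 3, true), (5, 4, true), (7, 0, true), (6, 2, true), (6, 0, true)]),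
    ([1, 7, 7], [(0, 29, true), (4, 29, true), (3, 30, true), (2, 32, true), (1, 34, true), (0, 35, true), (3, 15, true), (2, 17, true), (1, 18, true), (0, 19, true), (2, 3, true), (1, 4, true), (3, 0, true), (2, 2, true), (2, 10, true), (1, 12, true), (3, 0, true), (2, 8, true), (4, 0, true), (4, 10, true), (3, 12, true), (2, 13, true), (1, 14, true), (1, 6, true), (2, 0, true), (3, 0, true), (2, 5, true), (2, 1, true), (3, 0, true), (2, 22, true), (1, 24, true), (0, 26, true), (5, 10, true), (4, 11, true), (3, 12, true), (2, 13, true), (4, 3, true), (5, 0, true), (6, 6, true), (5, 7, true), (4, 8, true), (3, 9, true), (3, 3, true), (4, 0, true), (5, 0, true), (4, 2, true), (4, 0, true), (3, 12, true), (2, 14, true), (2, 3, true), (3, 0, true), (2, 8, true), (4, 3, true), (3, 5, true), (3, 0, true), (3, 11, true), (2, 13, true), (4, 1, true), (5, 6, true), (4, 7, true), (3, 9, true), (3, 1, true), (4, 0, true), (4, 15, true), (3, 16, true), (2, 19, true), (1, 20, true), (4, 1, true), (3, 2, true), (3, 0, true), (3, 10, true), (2, 12, true), (1, 13, true), (3,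 3, true), (4, 0, true), (4, 0, true), (4, 6, true), (3, 8, true), (2, 9, true), (2, 3, true), (3, 0, true), (3, 0, true), (2, 23, true), (1, 25, true), (0, 27, true), (3, 6, true), (2, 7, true), (1, 8, true), (0, 9, true), (0, 3, true), (1, 0, true), (2, 0, true), (1, 4, true), (0, 5, true), (0, 1, true), (1, 0, true), (1, 6, true), (0, 7, true), (2, 0, true), (1, 2, true), (1, 0, true), (0, 13, true), (2, 3, true), (3, 1, true)], [(1, 35, true), (0, 11, true), (1, 7, true), (3, 3, true), (2, 4, true), (4, 0, true)]),
    ([2, 2, 2], [(0, 5, true), (0, 3, true)], [(1, 5, true)]),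
    ([2, 2, 5], [(0, 5, true), (0, 15, true)], [(1, 17, true), (0, 17, true), (3, 10, true), (2, 13, true), (1, 14, true), (1, 6, true), (2, 0, true), (2, 6, true), (1, 9, true), (1, 0, true)]),
    ([2, 2, 6], [(0, 5, true), (0, 21, true)], [(1, 23, true), (0, 23, true), (3, 6, true), (2, 7, true), (1, 9, true), (1, 1, true), (2, 0, true), (2, 1, true), (1, 2, true), (1, 0, true)]),
    ([2, 2, 7], [(0, 5, true), (0, 28, true)], [(1, 30, true), (0, 30, true), (3, 15, true), (2, 18, true), (1, 20, true), (4, 3, true), (3, 4, true), (2, 5, true), (2, 1, true), (3, 0, true), (3, 1, true), (2, 2, true), (2, 0, true), (2, 6, true), (1, 9, true), (1, 0, true)]),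
    ([2, 7, 7], [(0, 30, true), (3, 28, true), (2, 31, true), (1, 33, true), (0, 35, true), (3, 21, true), (2, 23, true), (1, 24, true), (0, 25, true), (3, 10, true), (2, 12, true), (1, 13, true), (3, 3, true), (4, 0, true), (4, 6, true), (3, 8, true), (2, 9, true), (2, 3, true), (3, 0, true), (3, 1, true), (4, 0, true), (3, 7, true), (2, 8, true), (4, 1, true), (5, 0, true), (4, 2, true), (4, 0, true), (4, 15, true), (3, 17, true), (2, 18, true), (1, 19, true), (3, 3, true), (2, 4, true), (4, 0, true), (3, 2, true), (3, 10, true), (2, 12, true), (4, 0, true), (3, 8, true), (5, 0, true), (5, 3, true), (4, 5, true), (4, 0, true), (5, 21, true), (4, 22, true), (3, 24, true), (2, 25, true), (1, 26, true), (0, 27, true), (3, 15, true), (2, 16, true), (1, 17, true), (0, 18, true), (2, 11, true), (1, 12, true), (3, 1, true), (4, 6, true), (3, 7, true), (2, 8, true), (4, 1, true), (5, 0, true), (5, 0, true), (4, 11, true), (3, 12, true), (2, 13, true), (1, 14, true), (1, 6, true), (2, 0, true), (3, 1, true), (4, 0, true), (4, 6, true), (3, 7, true), (2, 8, true), (1,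 9, true), (1, 3, true), (2, 0, true), (3, 0, true), (2, 4, true), (1, 5, true), (1, 1, true), (2, 0, true), (1, 2, true), (1, 0, true), (3, 10, true), (2, 12, true), (1, 13, true), (3, 3, true), (4, 0, true), (4, 6, true), (3, 8, true), (2, 9, true), (2, 3, true), (3, 0, true), (3, 1, true), (4, 0, true), (3, 11, true), (2, 12, true), (1, 14, true), (1, 3, true), (2, 0, true), (2, 7, true), (1, 8, true), (3, 1, true), (4, 0, true), (3, 4, true), (2, 5, true), (2, 1, true), (3, 0, true), (2, 2, true), (2, 0, true), (1, 18, true), (0, 20, true), (3, 3, true), (2, 4, true), (1, 5, true), (1, 1, true), (2, 0, true), (2, 1, true), (1, 2, true), (1, 0, true), (0, 13, true), (2, 0, true)], [(1, 35, true), (0, 12, true), (2, 6, true), (1, 8, true), (3, 0, true), (2, 5, true), (2, 0, true)]),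
    ([8, 1, 1], [(0, 37, true), (2, 37, true), (1, 3, true), (0, 5, true), (0, 0, true)], [(1, 2, true), (0, 36, true)]),
    ([8, 1, 2], [(0, 37, true), (2, 38, true), (1, 10, true), (0, 12, true), (2, 0, true), (1, 8, true), (3, 1, true)], [(1, 4, true), (0, 38, true), (3, 37, true), (5, 36, true), (2, 4, true), (4, 0, true)]),
    ([8, 1, 5], [(0, 37, true), (2, 41, true), (1, 21, true), (0, 23, true), (3, 0, true), (2, 16, true), (1, 18, true), (3, 11, true), (2, 12, true), (4, 1, true), (5, 0, true)], [(1, 16, true), (0, 41, true), (3, 40, true), (7, 36, true), (2, 10, true), (3, 3, true), (4, 1, true), (5, 0, true)]),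
    ([8, 1, 6], [(0, 37, true), (2, 42, true), (1, 15, true), (0, 17, true), (3, 0, true), (2, 13, true), (1, 14, true), (1, 6, true), (2, 0, true)], [(1, 22, true), (0, 42, true), (3, 40, true), (7, 39, true), (9, 38, true), (12, 37, true), (2, 11, true), (1, 14, true), (1, 1, true), (2, 3, true), (1, 4, true), (3, 0, true), (2, 2, true), (2, 0, true), (1, 12, true), (3, 0, true), (2, 12, true), (1, 14, true), (1, 3, true), (2, 0, true), (1, 8, true), (3, 1, true), (4, 3, true), (3, 4, true), (2, 5, true), (2, 1, true), (3, 0, true), (3, 0, true)]),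
    ([8, 1, 7], [(0, 37, true), (2, 43, true), (1, 28, true), (0, 30, true), (3, 0, true), (2, 24, true), (1, 26, true), (6, 10, true), (5, 11, true), (4, 12, true), (3, 13, true), (5, 3, true), (6, 0, true), (7, 6, true), (6, 7, true), (5, 8, true), (4, 9, true), (4, 3, true), (5, 0, true), (6, 0, true), (5, 2, true), (5, 0, true), (4, 12, true), (3, 14, true), (3, 3, true), (4, 0, true), (3, 5, true)], [(1, 29, true), (0, 43, true), (4, 42, true), (7, 40, true), (11, 38, true), (14, 37, true), (3, 17, true), (2, 19, true), (4, 10, true), (3, 11, true), (5, 6, true), (4, 7, true), (6, 0, true), (6, 10, true), (5, 11, true), (4, 13, true), (3, 14, true), (3, 6, true), (4, 0, true), (5, 1, true), (4, 2, true), (4, 0, true), (3, 13, true), (5, 3, true), (6, 1, true), (7, 0, true), (6, 11, true), (5, 12, true), (4, 13, true), (3, 14, true), (3, 6, true), (4, 0, true), (5, 1, true), (6, 6, true), (5, 7, true), (4, 8, true), (3, 9, true), (3, 3, true), (4, 0, true), (5, 0, true), (4, 2, true), (4, 3, true), (3, 5, true), (3, 0, true)]),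
    ([8, 2, 2], [(0, 38, true), (3, 38, true), (2, 11, true), (1, 13, true), (0, 14, true), (0, 6, true), (1, 0, true), (1, 7, true), (0, 9, true), (0, 1, true), (1, 0, true), (0, 2, true)], [(1, 5, true), (0, 36, true)]),
    ([8, 2, 5], [(0, 38, true), (3, 41, true), (2, 22, true), (1, 24, true), (0, 25, true), (3, 10, true), (2, 12, true), (1, 13, true), (3, 3, true), (4, 0, true), (4, 6, true), (3, 8, true), (2, 9, true), (2, 3, true), (3, 0, true), (3, 1, true), (4, 0, true), (3, 11, true), (2, 12, true), (1, 14, true), (1, 3, true), (2, 0, true), (2, 7, true), (1, 8, true), (3, 1, true), (4, 0, true), (3, 4, true), (2, 5, true), (2, 1, true), (3, 0, true), (2, 2, true), (2, 15, true), (1, 18, true), (4, 0, true)], [(1, 17, true), (0, 41, true), (3, 40, true), (7, 39, true), (9, 36, true), (2, 10, true), (3, 3, true), (4, 1, true), (5, 0, true), (4, 11, true), (3, 12, true), (2, 14, true), (2, 3, true), (3, 0, true), (4, 0, true)]),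
    ([8, 2, 6], [(0, 38, true), (3, 42, true), (2, 16, true), (1, 18, true), (0, 19, true), (2, 3, true), (1, 4, true), (3, 0, true), (2, 2, true), (2, 10, true), (1, 12, true), (3, 0, true), (3, 10, true), (2, 12, true), (1, 14, true), (1, 3, true), (2, 0, true), (2, 1, true)], [(1, 23, true), (0, 42, true), (3, 39, true), (5, 37, true), (7, 36, true), (2, 11, true), (1, 14, true), (1, 1, true), (2, 0, true), (1, 4, true), (3, 0, true)]),
    ([8, 2, 7], [(0, 38, true), (3, 43, true), (2, 29, true), (1, 31, true), (0, 32, true), (3, 24, true), (2, 25, true), (1, 27, true), (4, 6, true), (3, 7, true), (2, 8, true), (1, 9, true), (1, 3, true), (2, 0, true), (3, 0, true), (2, 4, true), (1, 5, true), (1, 1, true), (2, 0, true), (2, 10, true), (1, 11, true), (3, 6, true), (2, 7, true), (4, 0, true), (3, 2, true), (3, 0, true), (2, 18, true), (1, 19, true), (3, 3, true), (2, 4, true), (4, 0, true), (3, 2, true), (3, 10, true), (2, 12, true), (4, 0, true), (3, 23, true), (2, 25, true), (1, 26, true), (6, 6, true), (5, 7, true), (4, 8, true), (3, 9, true), (3, 3, true),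 (4, 0, true), (5, 0, true), (4, 4, true), (3, 5, true), (3, 1, true), (4, 0, true), (4, 6, true), (3, 7, true), (5, 0, true), (4, 2, true), (4, 0, true), (3, 13, true), (5, 3, true), (6, 1, true), (7, 21, true), (6, 22, true), (5, 23, true), (4, 24, true), (3, 25, true), (2, 26, true), (1, 27, true), (4, 15, true), (3, 16, true), (2, 17, true), (1, 18, true), (3, 11, true), (2, 12, true), (4, 1, true), (5, 6, true), (4, 7, true), (3, 8, true), (5, 1, true), (6, 0, true), (6, 0, true), (5, 11, true), (4, 12, true), (3, 13, true), (2, 14, true), (2, 6, true), (3, 0, true), (4, 1, true), (5, 0, true), (5, 6, true), (4, 7, true), (3, 8, true), (2, 9, true), (2, 3, true), (3, 0, true), (4, 0, true), (3, 4, true), (2, 5, true), (2, 1, true), (3, 0, true), (2, 2, true), (2, 0, true), (4, 10, true), (3, 12, true), (2, 13, true), (4, 3, true), (5, 0, true), (5, 6, true), (4, 8, true), (3, 9, true), (3, 3, true), (4, 0, true), (4, 1, true), (5, 0, true), (4, 7, true), (3, 8, true), (5, 1, true), (6, 0, true), (5, 2, true), (5, 0, true), (4, 12, true), (3, 13, true), (2,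 14, true), (2, 6, true), (3, 0, true), (4, 6, true), (3, 8, true), (2, 9, true), (2, 3, true), (3, 0, true), (3, 3, true), (2, 5, true), (2, 0, true), (3, 10, true), (2, 11, true), (4, 3, true), (3, 4, true), (5, 0, true)], [(1, 30, true), (0, 43, true), (4, 41, true), (7, 39, true), (9, 36, true), (3, 23, true), (2, 25, true), (1, 27, true), (4, 6, true), (3, 7, true), (2, 8, true), (1, 9, true), (1, 3, true), (2, 0, true), (3, 0, true), (2, 4, true), (1, 5, true), (1, 1, true), (2, 0, true), (2, 6, true), (1, 7, true), (3, 0, true), (2, 2, true), (2, 0, true), (1, 18, true), (4, 10, true), (3, 11, true), (2, 12, true), (4, 1, true), (5, 0, true), (5, 0, true)]),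
    ([9, 0, 4, 1], [(0, 44, true), (1, 45, true), (0, 28, true), (1, 21, true), (2, 15, true), (3, 6, true), (4, 1, true), (5, 0, true)], [(1, 10, true), (2, 1, true), (0, 45, true), (6, 44, true), (5, 0, true)]),
    ([9, 4, 1, 4, 1], [(0, 45, true), (6, 45, true), (5, 28, true), (4, 29, true), (3, 31, true), (2, 33, true), (1, 34, true), (0, 35, true), (3, 15, true), (2, 17, true), (1, 18, true), (0, 19, true), (2, 3, true), (1, 4, true), (3, 0, true), (2, 2, true), (2, 10, true), (1, 12, true), (3, 0, true), (2, 8, true), (4, 0, true), (4, 10, true), (3, 12, true), (2, 13, true), (1, 14, true), (1, 6, true), (2, 0, true), (3, 0, true), (2, 5, true), (2, 1, true), (3, 0, true), (2, 22, true), (1, 24, true), (0, 26, true), (5, 10, true), (4, 11, true), (3, 12, true), (2, 13, true), (4, 3, true), (5, 0, true), (6, 6, true), (5, 7, true), (4, 8, true), (3, 9, true), (3, 3, true), (4, 0, true), (5, 0, true), (4, 2, true), (4, 0, true), (3, 12, true), (2, 14, true), (2, 3, true), (3, 0, true), (2, 8, true), (4, 3, true), (3, 5, true), (3, 0, true), (3, 16, true),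 (2, 18, true), (1, 20, true), (4, 3, true), (3, 4, true), (2, 5, true), (2, 1, true), (3, 0, true), (3, 1, true), (2, 2, true), (2, 0, true), (1, 13, true), (3, 0, true), (5, 21, true), (4, 22, true), (3, 23, true), (2, 24, true), (1, 25, true), (0, 27, true), (3, 6, true), (2, 7, true), (1, 8, true), (0, 9, true), (0, 3, true), (1, 0, true), (2, 0, true), (1, 4, true), (0, 5, true), (0, 1, true), (1, 0, true), (1, 10, true), (0, 11, true), (2, 6, true), (1, 7, true), (3, 0, true), (2, 2, true), (2, 0, true), (1, 9, true), (1, 1, true), (2, 0, true), (1, 11, true), (0, 14, true), (0, 1, true), (1, 6, true), (0, 7, true), (2, 0, true), (1, 4, true), (3, 1, true), (2, 2, true), (2, 0, true), (2, 15, true), (1, 17, true), (0, 18, true), (2, 11, true), (1, 12, true), (3, 1, true), (4, 6, true), (3, 7, true), (2, 8, true), (4, 1, true), (5, 0, true), (5, 0, true), (5, 10, true), (4, 11, true), (3, 12, true), (2, 13, true), (1, 14, true), (1, 6, true), (2, 0, true), (3, 1, true), (4, 0, true), (3, 22, true), (2, 23, true), (1, 24, true), (0, 26, true), (5, 10, true),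 (4, 11, true), (3, 12, true), (2, 13, true), (4, 3, true), (5, 0, true), (6, 6, true), (5, 7, true), (4, 8, true), (3, 9, true), (3, 3, true), (4, 0, true), (5, 0, true), (4, 2, true), (4, 0, true), (3, 8, true), (5, 1, true), (6, 0, true), (5, 11, true), (4, 12, true), (3, 13, true), (2, 14, true), (2, 6, true), (3, 0, true), (4, 1, true), (5, 6, true), (4, 7, true), (3, 8, true), (2, 9, true), (2, 3, true), (3, 0, true), (4, 0, true), (3, 4, true), (2, 5, true), (2, 1, true), (3, 0, true), (2, 2, true), (2, 10, true), (3, 3, true), (4, 1, true), (5, 0, true), (4, 22, true), (3, 23, true), (2, 25, true), (1, 26, true), (0, 27, true), (3, 15, true), (2, 16, true), (1, 17, true), (0, 18, true), (2, 11, true), (1, 12, true), (3, 1, true), (4, 6, true), (3, 7, true), (2, 8, true), (4, 1, true), (5, 0, true), (5, 0, true), (4, 11, true), (3, 12, true), (2, 13, true), (1, 14, true), (1, 6, true), (2, 0, true), (3, 1, true), (4, 0, true), (4, 6, true), (3, 7, true), (2, 8, true), (1, 9, true), (1, 3, true), (2, 0, true), (3, 0, true), (2, 4, true), (1, 5, true), (1,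 1, true), (2, 0, true), (1, 2, true), (1, 0, true), (3, 6, true), (2, 8, true), (1, 9, true), (1, 3, true), (2, 0, true), (2, 1, true), (3, 0, true), (2, 11, true), (1, 12, true), (3, 1, true), (4, 6, true), (3, 7, true), (2, 8, true), (4, 1, true), (5, 0, true), (5, 3, true), (4, 4, true), (3, 5, true), (3, 1, true), (4, 0, true), (4, 1, true), (3, 2, true), (3, 0, true), (2, 18, true), (1, 19, true), (0, 20, true), (3, 1, true), (2, 2, true), (2, 0, true), (2, 3, true), (1, 5, true), (1, 0, true), (1, 7, true), (0, 9, true), (0, 1, true), (1, 0, true), (0, 2, true), (0, 0, true)], [(2, 11, true), (1, 14, true), (1, 1, true), (2, 1, true), (1, 2, true), (1, 0, true)]),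
    ([9, 4, 1, 7], [(0, 45, true), (6, 47, true), (5, 28, true), (4, 29, true), (3, 31, true), (2, 33, true), (1, 34, true), (0, 35, true), (3, 15, true), (2, 17, true), (1, 18, true), (0, 19, true), (2, 3, true), (1, 4, true), (3, 0, true), (2, 2, true), (2, 10, true), (1, 12, true), (3, 0, true), (2, 8, true), (4, 0, true), (4, 10, true), (3, 12, true), (2, 13, true), (1, 14, true), (1, 6, true), (2, 0, true), (3, 0, true), (2, 5, true), (2, 1, true), (3, 0, true), (2, 22, true), (1, 24, true), (0, 26, true), (5, 10, true), (4, 11, true), (3, 12, true), (2, 13, true), (4, 3, true), (5, 0, true), (6, 6, true), (5, 7, true), (4, 8, true), (3, 9, true), (3, 3, true), (4, 0, true), (5, 0, true), (4, 2, true), (4, 0, true), (3, 12, true), (2, 14, true), (2, 3, true), (3, 0, true), (2, 8, true), (4, 3, true), (3, 5, true), (3, 0, true), (3, 16, true), (2, 18, true), (1, 20, true), (4, 3, true), (3, 4, true), (2, 5, true), (2, 1, true), (3, 0, true), (3, 1, true), (2, 2, true), (2, 0, true), (1, 13, true), (3, 0, true), (5, 21, true), (4, 22, true), (3, 23, true),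 (2, 24, true), (1, 25, true), (0, 27, true), (3, 6, true), (2, 7, true), (1, 8, true), (0, 9, true), (0, 3, true), (1, 0, true), (2, 0, true), (1, 4, true), (0, 5, true), (0, 1, true), (1, 0, true), (1, 10, true), (0, 11, true), (2, 6, true), (1, 7, true), (3, 0, true), (2, 2, true), (2, 0, true), (1, 9, true), (1, 1, true), (2, 0, true), (1, 11, true), (0, 14, true), (0, 1, true), (1, 6, true), (0, 7, true), (2, 0, true), (1, 4, true), (3, 1, true), (2, 2, true), (2, 0, true), (2, 15, true), (1, 17, true), (0, 18, true), (2, 11, true), (1, 12, true), (3, 1, true), (4, 6, true), (3, 7, true), (2, 8, true), (4, 1, true), (5, 0, true), (5, 0, true), (5, 10, true), (4, 11, true), (3, 12, true), (2, 13, true), (1, 14, true), (1, 6, true), (2, 0, true), (3, 1, true), (4, 0, true), (3, 22, true), (2, 23, true), (1, 24, true), (0, 26, true), (5, 10, true), (4, 11, true), (3, 12, true), (2, 13, true), (4, 3, true), (5, 0, true), (6, 6, true), (5, 7, true), (4, 8, true), (3, 9, true), (3, 3, true), (4, 0, true), (5, 0, true), (4, 2, true), (4, 0, true), (3, 8, true), (5,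 1, true), (6, 0, true), (5, 11, true), (4, 12, true), (3, 13, true), (2, 14, true), (2, 6, true), (3, 0, true), (4, 1, true), (5, 6, true), (4, 7, true), (3, 8, true), (2, 9, true), (2, 3, true), (3, 0, true), (4, 0, true), (3, 4, true), (2, 5, true), (2, 1, true), (3, 0, true), (2, 2, true), (2, 10, true), (3, 3, true), (4, 1, true), (5, 0, true), (4, 22, true), (3, 23, true), (2, 25, true), (1, 26, true), (0, 27, true), (3, 15, true), (2, 16, true), (1, 17, true), (0, 18, true), (2, 11, true), (1, 12, true), (3, 1, true), (4, 6, true), (3, 7, true), (2, 8, true), (4, 1, true), (5, 0, true), (5, 0, true), (4, 11, true), (3, 12, true), (2, 13, true), (1, 14, true), (1, 6, true), (2, 0, true), (3, 1, true), (4, 0, true), (4, 6, true), (3, 7, true), (2, 8, true), (1, 9, true), (1, 3, true), (2, 0, true), (3, 0, true), (2, 4, true), (1, 5, true), (1, 1, true), (2, 0, true), (1, 2, true), (1, 0, true), (3, 6, true), (2, 8, true), (1, 9, true), (1, 3, true), (2, 0, true), (2, 1, true), (3, 0, true), (2, 11, true), (1, 12, true), (3, 1, true), (4, 6, true), (3, 7, true),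 (2, 8, true), (4, 1, true), (5, 0, true), (5, 3, true), (4, 4, true), (3, 5, true), (3, 1, true), (4, 0, true), (4, 1, true), (3, 2, true), (3, 0, true), (2, 18, true), (1, 19, true), (0, 20, true), (3, 1, true), (2, 2, true), (2, 0, true), (2, 3, true), (1, 5, true), (1, 0, true), (1, 11, true), (0, 13, true), (2, 1, true), (3, 6, true), (2, 7, true), (1, 9, true), (1, 1, true), (2, 0, true), (2, 0, true)], [(2, 29, true), (1, 32, true), (4, 24, true), (3, 25, true), (2, 27, true), (5, 6, true), (4, 7, true), (3, 8, true), (2, 9, true), (2, 3, true), (3, 0, true), (4, 0, true), (3, 4, true), (2, 5, true), (2, 1, true), (3, 0, true), (3, 10, true), (2, 11, true), (4, 6, true), (3, 7, true), (5, 0, true), (4, 2, true), (4, 0, true), (3, 13, true), (2, 14, true), (2, 6, true), (3, 0, true), (0, 47, true), (6, 46, true), (5, 28, true), (4, 31, true), (3, 32, true), (2, 33, true), (1, 34, true), (0, 35, true), (3, 15, true), (2, 17, true), (1, 18, true), (0, 19, true), (2, 3, true), (1, 4, true), (3, 0, true), (2, 2, true), (2, 10, true), (1, 12, true), (3, 0, true),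 (2, 8, true), (4, 0, true), (4, 10, true), (3, 12, true), (2, 13, true), (1, 14, true), (1, 6, true), (2, 0, true), (3, 0, true), (2, 5, true), (2, 1, true), (3, 0, true), (2, 22, true), (1, 24, true), (0, 26, true), (5, 10, true), (4, 11, true), (3, 12, true), (2, 13, true), (4, 3, true), (5, 0, true), (6, 6, true), (5, 7, true), (4, 8, true), (3, 9, true), (3, 3, true), (4, 0, true), (5, 0, true), (4, 2, true), (4, 0, true), (3, 12, true), (2, 14, true), (2, 3, true), (3, 0, true), (2, 8, true), (4, 3, true), (3, 5, true), (3, 0, true), (3, 16, true), (2, 18, true), (1, 20, true), (4, 3, true), (3, 4, true), (2, 5, true), (2, 1, true), (3, 0, true), (3, 1, true), (2, 2, true), (2, 0, true), (1, 13, true), (3, 0, true), (5, 21, true), (4, 22, true), (3, 23, true), (2, 24, true), (1, 25, true), (0, 27, true), (3, 6, true), (2, 7, true), (1, 8, true), (0, 9, true), (0, 3, true), (1, 0, true), (2, 0, true), (1, 4, true), (0, 5, true), (0, 1, true), (1, 0, true), (1, 10, true), (0, 11, true), (2, 6, true), (1, 7, true), (3, 0, true), (2, 2, true), (2, 0, true), (1,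 9, true), (1, 1, true), (2, 0, true), (1, 11, true), (0, 14, true), (0, 1, true), (1, 6, true), (0, 7, true), (2, 0, true), (1, 4, true), (3, 1, true), (2, 2, true), (2, 0, true), (2, 10, true), (1, 12, true), (0, 13, true), (2, 3, true), (3, 0, true), (3, 6, true), (2, 8, true), (1, 9, true), (1, 3, true), (2, 0, true), (2, 21, true), (1, 23, true), (0, 25, true), (3, 6, true), (2, 8, true), (1, 9, true), (1, 3, true), (2, 0, true), (2, 1, true), (3, 0, true), (3, 15, true), (2, 16, true), (1, 17, true), (4, 10, true), (3, 13, true), (2, 14, true), (2, 6, true), (3, 0, true), (3, 0, true), (3, 10, true), (2, 13, true), (4, 0, true), (4, 21, true), (3, 24, true), (2, 25, true), (1, 26, true), (0, 27, true), (3, 15, true), (2, 16, true), (1, 17, true), (0, 18, true), (2, 11, true), (1, 12, true), (3, 1, true), (4, 6, true), (3, 7, true), (2, 8, true), (4, 1, true), (5, 0, true), (5, 0, true), (4, 11, true), (3, 12, true), (2, 13, true), (1, 14, true), (1, 6, true), (2, 0, true), (3, 1, true), (4, 0, true), (4, 6, true), (3, 7, true), (2, 8, true), (1, 9, true),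 (1, 3, true), (2, 0, true), (3, 0, true), (2, 4, true), (1, 5, true), (1, 1, true), (2, 0, true), (1, 2, true), (1, 0, true), (3, 10, true), (2, 12, true), (1, 13, true), (3, 3, true), (4, 0, true), (4, 6, true), (3, 8, true), (2, 9, true), (2, 3, true), (3, 0, true), (3, 1, true), (4, 0, true), (4, 15, true), (3, 16, true), (2, 17, true), (1, 19, true), (0, 20, true), (3, 1, true), (2, 2, true), (2, 0, true), (2, 10, true), (1, 12, true), (0, 13, true), (2, 3, true), (3, 0, true), (3, 6, true), (2, 8, true), (1, 9, true), (1, 3, true), (2, 0, true), (2, 0, true), (1, 12, true), (0, 14, true), (0, 3, true), (1, 0, true), (1, 0, true), (0, 12, true), (2, 3, true), (1, 5, true), (1, 0, true)])]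
  masks := [1026, 1096, 2098184, 32840, 2, 11, 50181, 2128824, 448821572, 41041, 2108681, 355142134, 39049, 348962593, 29368202, 622746, 40789389, 5203941451, 7754429662, 22814341552, 8, 58912, 2097892, 269779549, 12295413295, 68719476781, 68719482114, 1305680813065, 1924149733742, 5774399657158, 68719504102, 1992919790332, 1030801393669, 3100579433642, 270566464, 63177161947, 105553342943162]
  gauge := [39191576576, 55834574848, 26306674688, 4294967296, 25769803776, 0, 0, 0, 0, 0]
  picks := [1048624, 16, 52669565046, 1048576, 51661883617, 52701027374, 1048595, 51660835503, 51663984725, 51558080241, 17, 3151544, 51657690172, 51661884121, 52668516364, 27, 17197091417, 54008725570, 37953037973, 17203349532, 2478094535, 1048597, 6612491825, 18339923111, 24853859352, 59212736663, 5828337406, 21298028, 17179869196, 0, 51555834282, 20693183145, 0, 0, 0, 0]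

end CfsgLib.SporJ2.Cover
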